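import Groth.Agent.GIT.K610.MgLqf
import Groth.Agent.AlgSt.K746.ModChart
import Groth.Agent.AlgSt.K746.GeomBij

/-!
# A coarse moduli space with a quasi-injective map to a scheme is a scheme

`𝒳` a category over `(Sch/S)` with a coarse moduli space `π : 𝒳 ⥤ᵇ ofSp M`, `M` separated and locally of finite type,
`x : (Sch/U) ⥤ᵇ 𝒳` a chart with groupoid `(s, t) : R ⇉ U`, `a : U ⟶ A` an invariant morphism to a scheme such that two
geometric points of `U` with the same image in `A` are isomorphic in `𝒳`.  Then `M` is represented by a scheme `M₀` and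
`a` factors through a separated locally quasi-finite morphism `M₀ ⟶ A`.
-/

set_option autoImplicit false
set_option backward.isDefEq.respectTransparency false
set_option backward.isDefEq.respectTransparency.types false
universe w v u
open CategoryTheory CategoryTheory.Limits AlgebraicGeometry Opposite
open K734.Fib K746

namespace K610.Mg

variable {S : Scheme.{u}} {𝒳 : BasedCategory.{v, w} (Over S)} {M : AlgSp.Sp S} {π : 𝒳 ⥤ᵇ AlgSt.ofSp M}
  {U R A : Over S} {x : FibCat.overCat U ⥤ᵇ 𝒳}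

/-- The point of `M` attached to a point of the chart. -/
theorem exists_p (π : 𝒳 ⥤ᵇ AlgSt.ofSp M) (x : FibCat.overCat U ⥤ᵇ 𝒳) :
    ∃ p : (AlgSp.yon S).obj U ⟶ M, ∀ y, π.obj ((chF x).obj y) = (AlgSt.ofSpMap p).obj y := by
  obtain ⟨p, ⟨ip⟩⟩ := K734.Rep.exists_ofSpMap (BasedFunctor.comp (chF x) π)
  exact ⟨p, fun y => obj_eq_of_iso ip y⟩

/-- Every geometric point of the moduli space lifts to the chart. -/
theorem exists_lift_pt (hπ : AlgSt.GeomPtBij π) (hx : LocSurj (AlgSp.J S) x) {p : (AlgSp.yon S).obj U ⟶ M}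
    (hp : ∀ y, π.obj ((chF x).obj y) = (AlgSt.ofSpMap p).obj y) {Ω : Type u} [Field Ω] [IsAlgClosed Ω]
    (t : Spec (CommRingCat.of Ω) ⟶ S) (m : (AlgSp.yon S).obj (Over.mk t) ⟶ M) :
    ∃ u : Over.mk t ⟶ U, (AlgSp.yon S).map u ≫ p = m := by
  obtain ⟨z, hz, hm⟩ := GeomBij.surj hπ t (m.hom.app (op (Over.mk t)) ⟨𝟙 _⟩)
  obtain ⟨u, n, hn⟩ := GeomBij.exists_vert_chart (F := chF x) hx.chF hz
  refine ⟨u, ?_⟩
  have h1 : π.obj ((chF x).obj ⟨Over.mk t, ⟨u⟩⟩) = π.obj z := eq_of_vert (hn.map π)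
  rw [hp, hm] at h1
  have h2 : p.hom.app (op (Over.mk t)) ⟨u⟩ = m.hom.app (op (Over.mk t)) ⟨𝟙 _⟩ := elt_inj h1
  apply ObjectProperty.hom_ext
  ext T ⟨r⟩
  have h3 := NatTrans.naturality_apply p.hom (show op (Over.mk t) ⟶ T from r.op) ⟨u⟩
  have h4 := NatTrans.naturality_apply m.hom (show op (Over.mk t) ⟶ T from r.op) ⟨𝟙 _⟩
  change p.hom.app T ⟨r ≫ u⟩ = m.hom.app T ⟨r⟩
  have h5 : (((AlgSp.yon S).obj U).obj.map (show op (Over.mk t) ⟶ T from r.op) ⟨u⟩) = ⟨r ≫ u⟩ := rfl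
  have h6 : (((AlgSp.yon S).obj (Over.mk t)).obj.map (show op (Over.mk t) ⟶ T from r.op) ⟨𝟙 _⟩) = ⟨r⟩ := by
    apply ULift.ext
    exact Category.comp_id r
  rw [← h5]
  erw [h3]
  rw [h2, ← h4, h6]

/-- Isomorphic points of the chart have the same image in the moduli space. -/
theorem map_comp_p_eq {p : (AlgSp.yon S).obj U ⟶ M}
    (hp : ∀ y, π.obj ((chF x).obj y) = (AlgSt.ofSpMap p).obj y) {T : Over S} (u v : T ⟶ U)
    (h : ∃ φ : Xo x u ⟶ Xo x v, IsVert 𝒳 φ) : (AlgSp.yon S).map u ≫ p = (AlgSp.yon S).map v ≫ p := by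
  obtain ⟨φ, hφ⟩ := h
  have h1 : π.obj (Xo x u) = π.obj (Xo x v) := eq_of_vert (hφ.map π)
  have h1' : π.obj ((chF x).obj ⟨T, ⟨u⟩⟩) = π.obj ((chF x).obj ⟨T, ⟨v⟩⟩) := h1
  rw [hp, hp] at h1'
  have h2 : p.hom.app (op T) ⟨u⟩ = p.hom.app (op T) ⟨v⟩ := elt_inj h1'
  apply ObjectProperty.hom_ext
  ext T' ⟨r⟩
  have h3 := NatTrans.naturality_apply p.hom (show op T ⟶ T' from r.op) ⟨u⟩
  have h4 := NatTrans.naturality_apply p.hom (show op T ⟶ T' from r.op) ⟨v⟩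
  change p.hom.app T' ⟨r ≫ u⟩ = p.hom.app T' ⟨r ≫ v⟩
  exact h3.trans ((congrArg _ h2).trans h4.symm)

/-- A coarse moduli space with a map to a scheme which is injective on geometric points is a scheme. -/
theorem exists_scheme (h𝒳 : FibCat.IsFibGrpd 𝒳.p) (hπ : AlgSt.IsCoarseModuli π) (hsep : AlgSp.IsSeparatedSp M)
    (hft : ∀ q : M ⟶ (AlgSp.yon S).obj (Over.mk (𝟙 S)), AlgSp.LocP @LocallyOfFiniteType q)
    (hx : LocSurj (AlgSp.J S) x) (G : ChartRep x R) (a : U ⟶ A) (ha : G.s ≫ a = G.t ≫ a)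
    (hinj : ∀ (Ω : Type u) [Field Ω] [IsAlgClosed Ω] (t : Spec (CommRingCat.of Ω) ⟶ S) (u v : Over.mk t ⟶ U),
      u ≫ a = v ≫ a → ∃ φ : Xo x u ⟶ Xo x v, IsVert 𝒳 φ) :
    ∃ (M₀ : Over S) (_ : M ≅ (AlgSp.yon S).obj M₀) (k : M₀ ⟶ A) (p₀ : U ⟶ M₀),
      LocallyQuasiFinite k.left ∧ LocallyOfFiniteType k.left ∧ IsSeparated k.left ∧ IsSeparated M₀.hom ∧
        LocallyOfFiniteType M₀.hom ∧ p₀ ≫ k = a ∧ Surjective p₀.left := by
  obtain ⟨p, hp⟩ := exists_p π x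
  have hM : AlgSp.IsAlgSpace M := hπ.1.1
  have hcat := (RelBy.isCatModuliIn_iff h𝒳 (relBy_chF h𝒳 G) hx.chF hp).1 hπ.1
  obtain ⟨κ, hκ, -⟩ := hcat.2 ((AlgSp.yon S).obj A) (AlgSp.IsAlgSpace.yon_obj A) ((AlgSp.yon S).map a)
    (by rw [← Functor.map_comp, ← Functor.map_comp, ha])
  have hlft : AlgSp.LocP @LocallyOfFiniteType κ := by
    refine K597.locP_of_comp' (P := @LocallyOfFiniteType) K597.etLoc_lft
      (fun _ _ _ u v (h : LocallyOfFiniteType (u ≫ v)) => locallyOfFiniteType_of_comp u v)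
      hM.hasAtlas (AlgSp.IsAlgSpace.yon_obj A).hasAtlas (AlgSp.IsAlgSpace.yon_obj (Over.mk (𝟙 S))).hasAtlas
      (hft (κ ≫ (AlgSp.yon S).map (Over.homMk A.hom (by simp))))
  have hs : AlgSp.RepWith @IsClosedImmersion (pullback.diagonal κ) := K613.Diag.repWith_diagonal_of_diag hsep κ
  have hlqf := locP_lqf_of_inj hM κ hlft hs fun Ω _ _ t m m' hmm => by
    obtain ⟨u, rfl⟩ := exists_lift_pt hπ.2 hx hp t m
    obtain ⟨v, rfl⟩ := exists_lift_pt hπ.2 hx hp t m'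
    refine map_comp_p_eq hp u v (hinj Ω t u v ?_)
    rw [Category.assoc, Category.assoc, hκ, ← Functor.map_comp, ← Functor.map_comp] at hmm
    exact (AlgSp.yon S).map_injective hmm
  obtain ⟨M₀, ⟨e⟩⟩ := K613.exists_iso_of_lqf hM κ hlqf hs
  obtain ⟨k, hk⟩ := (AlgSp.yon S).map_surjective (e.hom ≫ κ)
  obtain ⟨p₀, hp₀⟩ := (AlgSp.yon S).map_surjective (p ≫ e.inv)
  have hA := AlgSp.IsAlgSpace.yon_obj A
  have hM₀ := AlgSp.IsAlgSpace.yon_obj M₀
  have h1 : AlgSp.LocP (@LocallyQuasiFinite ⊓ @LocallyOfFiniteType : MorphismProperty Scheme.{u})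
      ((AlgSp.yon S).map k) := by
    rw [hk]
    have sq : IsPullback e.hom (e.hom ≫ κ) κ (𝟙 _) := IsPullback.of_horiz_isIso ⟨by simp⟩
    exact K597.locP_bc K597.etLoc_lqf sq hM.hasAtlas hA.hasAtlas hA.hasAtlas hlqf
  have h2 := AlgSp.locP_yon_map h1
  have hsd : AlgSp.RepWith @IsClosedImmersion (Limits.diag ((AlgSp.yon S).obj M₀)) := by
    have hsep' : AlgSp.RepWith @IsClosedImmersion (Limits.diag M) := hsep
    rw [K613.Chart.repWith_diag_iff] at hsep' ⊢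
    intro T u v
    obtain ⟨E, i, hi, hi'⟩ := hsep' T (u ≫ e.hom) (v ≫ e.hom)
    refine ⟨E, i, ⟨?_, fun R r hr => hi.lift R r ?_⟩, hi'⟩
    · have := hi.w
      rw [← Category.assoc, ← Category.assoc, cancel_mono] at this
      exact this
    · rw [← Category.assoc, ← Category.assoc, hr]
  have h3 : AlgSp.IsSeparatedMor ((AlgSp.yon S).map k) := K613.Diag.repWith_diagonal_of_diag hsd _
  have h4 : IsSeparated M₀.hom := ⟨(AlgSp.repWith_diag_yon_iff @IsClosedImmersion M₀).1 hsd⟩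
  have h5 : LocallyOfFiniteType M₀.hom := by
    have h6 := hft (e.inv ≫ (AlgSp.yon S).map (Over.homMk M₀.hom (by simp)))
    have sq : IsPullback e.hom (e.hom ≫ e.inv ≫ (AlgSp.yon S).map (Over.homMk M₀.hom (by simp)))
      (e.inv ≫ (AlgSp.yon S).map (Over.homMk M₀.hom (by simp) : M₀ ⟶ Over.mk (𝟙 S))) (𝟙 _) :=
      IsPullback.of_horiz_isIso ⟨by simp⟩
    have h7 := K597.locP_bc K597.etLoc_lft sq hM.hasAtlas (AlgSp.IsAlgSpace.yon_obj (Over.mk (𝟙 S))).hasAtlas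
      (AlgSp.IsAlgSpace.yon_obj (Over.mk (𝟙 S))).hasAtlas h6
    rw [Iso.hom_inv_id_assoc] at h7
    exact AlgSp.locP_yon_map h7
  refine ⟨M₀, e.symm, k, p₀, h2.1, h2.2, (AlgSp.isSeparatedMor_yon_map_iff k).1 h3, h4, h5, ?_, ⟨fun y => ?_⟩⟩
  · apply (AlgSp.yon S).map_injective
    rw [Functor.map_comp, hp₀, hk, Category.assoc, Iso.inv_hom_id_assoc, hκ]
  · obtain ⟨Ω, _, _, w₀, rfl⟩ := exists_geom_pt y
    obtain ⟨u, hu⟩ := exists_lift_pt hπ.2 hx hp (w₀ ≫ M₀.hom)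
      ((AlgSp.yon S).map (Over.homMk w₀ rfl : Over.mk (w₀ ≫ M₀.hom) ⟶ M₀) ≫ e.hom)
    have h6 : u ≫ p₀ = (Over.homMk w₀ rfl : Over.mk (w₀ ≫ M₀.hom) ⟶ M₀) := by
      apply (AlgSp.yon S).map_injective
      rw [Functor.map_comp, hp₀, ← Category.assoc, hu, Category.assoc, Iso.hom_inv_id, Category.comp_id]
    refine ⟨u.left (IsLocalRing.closedPoint Ω), ?_⟩
    rw [← Scheme.Hom.comp_apply]
    exact congrArg (fun f : Over.mk (w₀ ≫ M₀.hom) ⟶ M₀ => f.left (IsLocalRing.closedPoint Ω)) h6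

end K610.Mg
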