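import Groth.Prelude.Def_AgMod
import Groth.Prelude.Def_Jac
import Groth.Prelude.Def_ModFun
import Groth.Prelude.Def_ModFun2
import Mathlib.RingTheory.RegularLocalRing.Defs

/-!
# The coarse moduli scheme of curves: the two statements on Jacobians used by the M_g end

`IsJacFam`: a family of the problem `AgPol.Agdn` over a geometric point is the Jacobian of a curve with the polarisation
attached to a theta divisor.

`NodeA`: over a regular Noetherian base a curve with a section has its Jacobian family (polarisation of degree one).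
`NodeB`: two Jacobian families over a geometric point are isomorphic exactly when the curves are.
-/

set_option autoImplicit false
universe u

open CategoryTheory CategoryTheory.Limits AlgebraicGeometry MonoidalCategory CartesianMonoidalCategory MonObj

namespace K610.Mg

/-- The family `F` over `Spec Ω` is the Jacobian of the curve `q : X ⟶ Spec Ω` with its theta polarisation. -/
def IsJacFam {Z : Scheme.{u}} {g : ℕ} (Ω : Type u) [Field Ω] {X : Scheme.{u}}
    (q : X ⟶ Spec (CommRingCat.of Ω)) {t : Spec (CommRingCat.of Ω) ⟶ Z} (F : AgPol.Fam (Over.mk t) g) : Prop :=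
  letI : GrpObj (C := Over (Spec (CommRingCat.of Ω))) F.X := F.grp
  ∃ (ψ : (ModFun.PicDeg q 0).Hom ⊤ F.X) (N : X.Modules) (Θ : F.X.left.Modules),
    Jac.IsJacobian q ⊤ F.X ψ ∧ PicF.IsInvertible N ∧
    (letI : X.Over (Spec (CommRingCat.of Ω)) := ⟨q⟩
     Curv2.deg Ω X N 1 = (g : ℤ) - 1) ∧
    Jac.IsThetaLB q 0 ψ N Θ ∧ AgPol.IsLambda F.X F.Xt F.φ Θ F.lam

/-- Existence of the Jacobian family over a regular Noetherian base. -/
def NodeA : Prop :=
  ∀ (Z : Scheme.{u}) (g : ℕ), 2 ≤ g → ∀ (U : Over Z), IsNoetherian U.left →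
    (∀ x : U.left, IsRegularLocalRing (U.left.presheaf.stalk x)) →
    ∀ (C : Over U.left), ModFun.IsCurveOfGenus g C.hom → ∀ σ : U.left ⟶ C.left, σ ≫ C.hom = 𝟙 U.left →
    ∃ F : AgPol.Fam U g, AgPol.Fam.ok g 1 1 U F ∧
      ∀ (Ω : Type u) [Field Ω] [IsAlgClosed Ω] (t : Spec (CommRingCat.of Ω) ⟶ Z) (a : Over.mk t ⟶ U),
        AgPol.Fam.ok g 1 1 (Over.mk t) (F.pull a) ∧ IsJacFam Ω (pullback.snd C.hom a.left) (F.pull a)

/-- Torelli in both directions for Jacobian families over a geometric point. -/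
def NodeB : Prop :=
  ∀ (Z : Scheme.{u}) (g : ℕ), 2 ≤ g → ∀ (Ω : Type u) [Field Ω] [IsAlgClosed Ω] (t : Spec (CommRingCat.of Ω) ⟶ Z)
    (X X' : Scheme.{u}) (q : X ⟶ Spec (CommRingCat.of Ω)) (q' : X' ⟶ Spec (CommRingCat.of Ω)),
    ModFun.IsCurveOfGenus g q → ModFun.IsCurveOfGenus g q' → ∀ (F F' : AgPol.Fam (Over.mk t) g),
    AgPol.Fam.ok g 1 1 (Over.mk t) F → AgPol.Fam.ok g 1 1 (Over.mk t) F' →
    IsJacFam Ω q F → IsJacFam Ω q' F' →
      (AgPol.Fam.r (Over.mk t) F F' ↔ Nonempty (Over.mk q ≅ Over.mk q'))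

end K610.Mg
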