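import Groth.Agent.GIT.K610.MgAtlas
import Groth.Agent.GIT.K610.MgKappa
import Groth.Agent.GIT.K610.Nodes
import Mathlib.AlgebraicGeometry.Morphisms.Separated

/-!
# The Torelli map on a good chart

* `NodeA0` : existence of the Jacobian family over a Noetherian base.
* `vert_iff_iso` : isomorphisms between points of a good chart are isomorphisms of the fibres of the curve.
* `ext_geom` : morphisms from a reduced scheme to a separated one are determined on geometric points.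
* `map_s_eq_map_t`, `exists_vert_of_eq` : the map attached to the Jacobian family is invariant and injective modulo
  isomorphism on geometric points.
-/

set_option autoImplicit false
set_option backward.isDefEq.respectTransparency false
set_option backward.isDefEq.respectTransparency.types false
universe u
open CategoryTheory CategoryTheory.Limits AlgebraicGeometry Opposite
open K734.Fib K746

namespace K610.Mg

/-- Existence of the Jacobian family over a Noetherian base. -/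
def NodeA0 : Prop :=
  ∀ (Z : Scheme.{u}) (g : ℕ), 2 ≤ g → ∀ (U : Over Z), IsNoetherian U.left →
    ∀ (C : Over U.left), ModFun.IsCurveOfGenus g C.hom → ∀ σ : U.left ⟶ C.left, σ ≫ C.hom = 𝟙 U.left →
    ∃ F : AgPol.Fam U g, AgPol.Fam.ok g 1 1 U F ∧
      ∀ (Ω : Type u) [Field Ω] [IsAlgClosed Ω] (t : Spec (CommRingCat.of Ω) ⟶ Z) (a : Over.mk t ⟶ U),
        AgPol.Fam.ok g 1 1 (Over.mk t) (F.pull a) ∧ IsJacFam Ω (pullback.snd C.hom a.left) (F.pull a)

section Vert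

variable {S : Scheme.{u}} {g : ℕ}

/-- Two lifts of the same morphism are vertically isomorphic. -/
theorem exists_vert_of_lift {𝒳 : BasedCategory.{u, u + 1} (Over S)} (h𝒳 : FibCat.IsFibGrpd 𝒳.p) {T T' : Over S}
    {f : T' ⟶ T} {a b c : 𝒳.obj} {φ : b ⟶ a} {ψ : c ⟶ a} (hφ : 𝒳.p.IsHomLift f φ) (hψ : 𝒳.p.IsHomLift f ψ) :
    ∃ χ : c ⟶ b, IsVert 𝒳 χ := by
  obtain ⟨χ, h1, -⟩ := exists_fac' h𝒳 (g := 𝟙 T') hφ (lift_congr (Category.id_comp f).symm hψ)
  exact ⟨χ, IsVert.of_lift h1⟩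

/-- Isomorphisms between points of a chart are isomorphisms of the fibres of the curve. -/
theorem vert_iff_iso (h𝒳 : FibCat.IsFibGrpd (CurvSt.Mgn S g 0).p) {U : Over S}
    {x : FibCat.overCat U ⥤ᵇ CurvSt.Mgn S g 0} {C : Over U.left} {hC : ModFun.IsCurveOfGenus g C.hom}
    (hz : Xo x (𝟙 U) = obj U C hC) {T : Over S} (u v : T ⟶ U) :
    (∃ φ : Xo x u ⟶ Xo x v, IsVert (CurvSt.Mgn S g 0) φ) ↔
      Nonempty ((Over.pullback u.left).obj C ≅ (Over.pullback v.left).obj C) := by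
  have key : ∀ w : T ⟶ U, (∃ χ : Xo x w ⟶ obj T ((Over.pullback w.left).obj C) (isCurve_pull w hC),
      IsVert (CurvSt.Mgn S g 0) χ) ∧ ∃ χ : obj T ((Over.pullback w.left).obj C) (isCurve_pull w hC) ⟶ Xo x w,
        IsVert (CurvSt.Mgn S g 0) χ := fun w => by
    have h1 := isHomLift_pullMor w hC (isCurve_pull w hC)
    have h2 : (CurvSt.Mgn S g 0).p.IsHomLift w (rs x w (Category.comp_id w) ≫ eqToHom hz) := by
      have h3 := (IsVert.eqToHom hz).lift (Xo_base x (𝟙 U))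
      have h4 := rs_lift x w (Category.comp_id w)
      exact lift_congr (Category.comp_id w) (IsHomLift.comp (CurvSt.Mgn S g 0).p w (𝟙 U)
        (rs x w (Category.comp_id w)) (eqToHom hz))
    exact ⟨exists_vert_of_lift h𝒳 h1 h2, exists_vert_of_lift h𝒳 h2 h1⟩
  obtain ⟨⟨a, ha⟩, b, hb⟩ := key u
  obtain ⟨⟨a', ha'⟩, b', hb'⟩ := key v
  constructor
  · rintro ⟨φ, hφ⟩
    exact iso_of_vert (b ≫ φ ≫ a') (hb.comp (hφ.comp ha'))
  · rintro ⟨e⟩
    obtain ⟨m, hm⟩ := exists_vert_of_iso (isCurve_pull u hC) (isCurve_pull v hC) e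
    exact ⟨a ≫ m ≫ b', ha.comp (hm.comp hb')⟩

end Vert

section Geom

/-- Morphisms from a reduced scheme to a separated one are determined on geometric points. -/
theorem ext_geom {R A Z : Scheme.{u}} [IsReduced R] (s : A ⟶ Z) [IsSeparated s] (f f' : R ⟶ A)
    (h : f ≫ s = f' ≫ s)
    (hΩ : ∀ (Ω : Type u) [Field Ω] [IsAlgClosed Ω] (w : Spec (CommRingCat.of Ω) ⟶ R), w ≫ f = w ≫ f') : f = f' := by
  have key : ∀ y : R, ∃ (Ω : Type u) (_ : Field Ω) (_ : IsAlgClosed Ω) (w : Spec (CommRingCat.of Ω) ⟶ R),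
      w (IsLocalRing.closedPoint Ω) = y := fun y => exists_geom_pt y
  choose Ω _ _ w hw using key
  let ι : ∐ (fun y : R => Spec (CommRingCat.of (Ω y))) ⟶ R := Sigma.desc w
  have : Surjective ι := ⟨fun y => by
    refine ⟨(Sigma.ι (fun y : R => Spec (CommRingCat.of (Ω y))) y) (IsLocalRing.closedPoint (Ω y)), ?_⟩
    rw [← Scheme.Hom.comp_apply, Sigma.ι_desc]
    exact hw y⟩
  refine ext_of_isDominant_of_isSeparated s h ι ?_
  refine Sigma.hom_ext _ _ fun y => ?_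
  rw [Sigma.ι_desc_assoc, Sigma.ι_desc_assoc]
  exact hΩ (Ω y) (w y)

end Geom

section Map

variable {S : Scheme.{u}} {g : ℕ} {Z : Scheme.{u}} (q : S ⟶ Z)

/-- The conclusion of `NodeA0` for a chart. -/
structure JacOn (K : GoodChart S g) (F : AgPol.Fam ((Over.map q).obj K.U) g) : Prop where
  ok : AgPol.Fam.ok g 1 1 _ F
  fib : ∀ (Ω : Type u) [Field Ω] [IsAlgClosed Ω] (t : Spec (CommRingCat.of Ω) ⟶ Z)
    (a : Over.mk t ⟶ (Over.map q).obj K.U),
    AgPol.Fam.ok g 1 1 (Over.mk t) (F.pull a) ∧ IsJacFam Ω (pullback.snd K.C.hom a.left) (F.pull a)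

theorem exists_jacOn (hA : NodeA0.{u}) (hg : 2 ≤ g) (K : GoodChart S g) :
    ∃ F : AgPol.Fam ((Over.map q).obj K.U) g, JacOn q K F := by
  obtain ⟨F, h1, h2⟩ := hA Z g hg ((Over.map q).obj K.U) K.noethU K.C K.hC K.σ K.hσ
  exact ⟨F, h1, h2⟩

variable {q} {A : Over Z} {Φ : (AgPol.Agdn Z g 1 1).Hom (fun T => IsLocallyNoetherian T.left) A}
  {K : GoodChart S g} {F : AgPol.Fam ((Over.map q).obj K.U) g}

theorem ln_spec (Ω : Type u) [Field Ω] (t : Spec (CommRingCat.of Ω) ⟶ Z) : IsLocallyNoetherian (Over.mk t).left :=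
  inferInstanceAs (IsLocallyNoetherian (Spec (CommRingCat.of Ω)))

/-- The morphism `U ⟶ A` attached to the Jacobian family. -/
def tor (Φ : (AgPol.Agdn Z g 1 1).Hom (fun T => IsLocallyNoetherian T.left) A) (hF : JacOn q K F) :
    (Over.map q).obj K.U ⟶ A := Φ.app _ F K.noethU.toIsLocallyNoetherian hF.ok

theorem comp_tor (hF : JacOn q K F) (Ω : Type u) [Field Ω] [IsAlgClosed Ω] (t : Spec (CommRingCat.of Ω) ⟶ Z)
    (a : Over.mk t ⟶ (Over.map q).obj K.U) :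
    a ≫ tor Φ hF = Φ.app (Over.mk t) (F.pull a) (ln_spec Ω t) (hF.fib Ω t a).1 :=
  (Φ.natural a F K.noethU.toIsLocallyNoetherian (ln_spec Ω t) hF.ok (hF.fib Ω t a).1).symm

/-- The key comparison: Torelli for two points of the chart. -/
theorem comp_tor_eq_iff (hB : NodeB.{u}) (hg : 2 ≤ g) (hF : JacOn q K F)
    (Ω : Type u) [Field Ω] [IsAlgClosed Ω] (t : Spec (CommRingCat.of Ω) ⟶ Z)
    (a b : Over.mk t ⟶ (Over.map q).obj K.U) :
    AgPol.Fam.r (Over.mk t) (F.pull a) (F.pull b) ↔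
      Nonempty ((Over.pullback a.left).obj K.C ≅ (Over.pullback b.left).obj K.C) :=
  hB Z g hg Ω t _ _ (pullback.snd K.C.hom a.left) (pullback.snd K.C.hom b.left)
    (K995.GenusField.isCurveOfGenus_of_isPullback (IsPullback.of_hasPullback K.C.hom a.left) K.hC)
    (K995.GenusField.isCurveOfGenus_of_isPullback (IsPullback.of_hasPullback K.C.hom b.left) K.hC)
    (F.pull a) (F.pull b) (hF.fib Ω t a).1 (hF.fib Ω t b).1 (hF.fib Ω t a).2 (hF.fib Ω t b).2

/-- The Torelli map is invariant. -/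
theorem map_s_tor (hB : NodeB.{u}) (hg : 2 ≤ g) (h𝒳 : FibCat.IsFibGrpd (CurvSt.Mgn S g 0).p) [IsReduced K.R.left]
    [IsSeparated A.hom] (hF : JacOn q K F) :
    (Over.map q).map K.G.s ≫ tor Φ hF = (Over.map q).map K.G.t ≫ tor Φ hF := by
  ext1
  have : IsReduced ((Over.map q).obj K.R).left := inferInstanceAs (IsReduced K.R.left)
  refine ext_geom A.hom _ _ ?_ fun Ω _ _ w => ?_
  · rw [Over.w, Over.w]
  · let w' : Over.mk (w ≫ K.R.hom) ⟶ K.R := Over.homMk w rfl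
    obtain ⟨φ, hφ⟩ := K.G.exists_arr h𝒳 w' (u := w' ≫ K.G.s) (v := w' ≫ K.G.t) rfl rfl
    have h1 := (vert_iff_iso h𝒳 K.hz (w' ≫ K.G.s) (w' ≫ K.G.t)).1 ⟨φ, hφ.vert⟩
    let w'' : Over.mk ((w ≫ K.R.hom) ≫ q) ⟶ (Over.map q).obj K.R := (Over.map q).map w'
    have h2 := (comp_tor_eq_iff hB hg hF Ω ((w ≫ K.R.hom) ≫ q) (w'' ≫ (Over.map q).map K.G.s)
      (w'' ≫ (Over.map q).map K.G.t)).2 h1
    have h3 := Φ.resp _ _ (ln_spec Ω _) (hF.fib Ω _ _).1 (hF.fib Ω _ _).1 h2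
    have h4 := comp_tor (Φ := Φ) hF Ω _ (w'' ≫ (Over.map q).map K.G.s)
    have h5 := comp_tor (Φ := Φ) hF Ω _ (w'' ≫ (Over.map q).map K.G.t)
    exact congrArg CommaMorphism.left (h4.trans (h3.trans h5.symm))

/-- The Torelli map is injective modulo isomorphism. -/
theorem exists_vert_of_tor (hB : NodeB.{u}) (hg : 2 ≤ g) (h𝒳 : FibCat.IsFibGrpd (CurvSt.Mgn S g 0).p)
    (hΦ : ModFun.GeomBij (AgPol.Agdn Z g 1 1) A Φ) (hF : JacOn q K F)
    (Ω : Type u) [Field Ω] [IsAlgClosed Ω] (t : Spec (CommRingCat.of Ω) ⟶ S) (u v : Over.mk t ⟶ K.U)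
    (huv : (Over.map q).map u ≫ tor Φ hF = (Over.map q).map v ≫ tor Φ hF) :
    ∃ φ : Xo K.x u ⟶ Xo K.x v, IsVert (CurvSt.Mgn S g 0) φ := by
  let u' : Over.mk (t ≫ q) ⟶ (Over.map q).obj K.U := (Over.map q).map u
  let v' : Over.mk (t ≫ q) ⟶ (Over.map q).obj K.U := (Over.map q).map v
  have huv' : u' ≫ tor Φ hF = v' ≫ tor Φ hF := huv
  rw [comp_tor, comp_tor] at huv'
  have h1 := (hΦ Ω (t ≫ q) (ln_spec Ω (t ≫ q))).2 (F.pull u') (F.pull v') (hF.fib Ω _ _).1 (hF.fib Ω _ _).1 huv'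
  exact (vert_iff_iso h𝒳 K.hz u v).2 ((comp_tor_eq_iff hB hg hF Ω (t ≫ q) u' v').1 h1)

end Map

end K610.Mg
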