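import Groth.Agent.AlgSt.K746.Sec
import Groth.Agent.EssDim.K995.GenusField
import Groth.Prelude.Def_StCurv
import Groth.Prelude.Def_ModFun

/-!
# Objects of `Mgn S g 0` and families of the moduli problem `ModFun.Mg S g`

* `obj T C hC` : the object of `Mgn S g 0` over `T` of a curve `C` over `T.left`.
* `fam z` : the curve of an object; `exists_obj` : every object over `T` is `obj T C hC`.
* `homOfSq`, `iso_of_vert` : morphisms and cartesian squares.
* `val π T C hC` : the value of `π : Mgn S g 0 ⥤ᵇ ofSp M` at a curve.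
* `pval ψ z hT` : the value of `ψ : (ModFun.Mg S g).Hom P N` at an object.
-/

set_option autoImplicit false
set_option backward.isDefEq.respectTransparency false
set_option backward.isDefEq.respectTransparency.types false
universe u
open CategoryTheory CategoryTheory.Limits AlgebraicGeometry Opposite
open K734.Fib K746

namespace K610.Mg

variable {S : Scheme.{u}} {g : ℕ}

/-- The object of `Mgn S g 0` attached to a curve. -/
def obj (T : Over S) (C : Over T.left) (hC : ModFun.IsCurveOfGenus g C.hom) : (CurvSt.Mgn S g 0).obj :=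
  ⟨⟨T, C.left, C.hom, fun i => i.elim0, fun i => i.elim0⟩, ⟨hC, fun i => i.elim0⟩⟩

theorem p_obj (T : Over S) (C : Over T.left) (hC : ModFun.IsCurveOfGenus g C.hom) :
    (CurvSt.Mgn S g 0).p.obj (obj T C hC) = T := rfl

theorem p_obj_base (z : (CurvSt.Mgn S g 0).obj) : (CurvSt.Mgn S g 0).p.obj z = z.obj.base := rfl

theorem exists_obj {T : Over S} (z : (CurvSt.Mgn S g 0).obj) (hz : (CurvSt.Mgn S g 0).p.obj z = T) :
    ∃ (C : Over T.left) (hC : ModFun.IsCurveOfGenus g C.hom), z = obj T C hC := by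
  subst hz
  obtain ⟨⟨B, C, f, σ, hσ⟩, h1, h2⟩ := z
  refine ⟨Over.mk f, h1, ?_⟩
  obtain rfl : σ = fun i => i.elim0 := funext fun i => i.elim0
  rfl

/-- A cartesian square gives a morphism of `Mgn S g 0`. -/
def homOfSq {z w : (CurvSt.Mgn S g 0).obj} (b : z.obj.base ⟶ w.obj.base) (c : z.obj.C ⟶ w.obj.C)
    (h : IsPullback c z.obj.f w.obj.f b.left) : z ⟶ w :=
  ObjectProperty.homMk ⟨b, c, h, fun i => i.elim0⟩

theorem homOfSq_map {z w : (CurvSt.Mgn S g 0).obj} (b : z.obj.base ⟶ w.obj.base) (c : z.obj.C ⟶ w.obj.C)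
    (h : IsPullback c z.obj.f w.obj.f b.left) : (CurvSt.Mgn S g 0).p.map (homOfSq b c h) = b := rfl

theorem isHomLift_homOfSq {z w : (CurvSt.Mgn S g 0).obj} (b : z.obj.base ⟶ w.obj.base) (c : z.obj.C ⟶ w.obj.C)
    (h : IsPullback c z.obj.f w.obj.f b.left) : (CurvSt.Mgn S g 0).p.IsHomLift b (homOfSq b c h) :=
  inferInstanceAs ((CurvSt.Mgn S g 0).p.IsHomLift ((CurvSt.Mgn S g 0).p.map (homOfSq b c h)) _)

theorem sq_of_hom {z w : (CurvSt.Mgn S g 0).obj} (m : z ⟶ w) :
    IsPullback m.hom.top z.obj.f w.obj.f ((CurvSt.Mgn S g 0).p.map m).left := m.hom.cart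

/-- Curves are stable under base change. -/
theorem isCurve_pull {T T' : Over S} (k : T' ⟶ T) {C : Over T.left} (hC : ModFun.IsCurveOfGenus g C.hom) :
    ModFun.IsCurveOfGenus g ((Over.pullback k.left).obj C).hom :=
  K995.GenusField.isCurveOfGenus_of_isPullback (IsPullback.of_hasPullback C.hom k.left) hC

/-- The base change square. -/
noncomputable def pullMor {T T' : Over S} (k : T' ⟶ T) {C : Over T.left} (hC : ModFun.IsCurveOfGenus g C.hom)
    (hC' : ModFun.IsCurveOfGenus g ((Over.pullback k.left).obj C).hom) :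
    obj T' ((Over.pullback k.left).obj C) hC' ⟶ obj T C hC :=
  homOfSq (z := obj T' ((Over.pullback k.left).obj C) hC') (w := obj T C hC) k (pullback.fst C.hom k.left)
    (IsPullback.of_hasPullback C.hom k.left)

theorem isHomLift_pullMor {T T' : Over S} (k : T' ⟶ T) {C : Over T.left} (hC : ModFun.IsCurveOfGenus g C.hom)
    (hC' : ModFun.IsCurveOfGenus g ((Over.pullback k.left).obj C).hom) :
    (CurvSt.Mgn S g 0).p.IsHomLift k (pullMor k hC hC') :=
  isHomLift_homOfSq (z := obj T' ((Over.pullback k.left).obj C) hC') (w := obj T C hC) _ _ _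

/-- Isomorphic curves give vertically isomorphic objects. -/
theorem exists_vert_of_iso {T : Over S} {C C' : Over T.left} (hC : ModFun.IsCurveOfGenus g C.hom)
    (hC' : ModFun.IsCurveOfGenus g C'.hom) (e : C ≅ C') :
    ∃ m : obj T C hC ⟶ obj T C' hC', IsVert (CurvSt.Mgn S g 0) m := by
  have h : IsPullback e.hom.left C.hom C'.hom (𝟙 T : T ⟶ T).left := by
    rw [Over.id_left]
    exact IsPullback.of_horiz_isIso ⟨by simp⟩
  exact ⟨homOfSq (z := obj T C hC) (w := obj T C' hC') (𝟙 T) e.hom.left h,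
    isHomLift_homOfSq (z := obj T C hC) (w := obj T C' hC') _ _ _⟩

theorem iso_of_vert {T : Over S} {C C' : Over T.left} {hC : ModFun.IsCurveOfGenus g C.hom}
    {hC' : ModFun.IsCurveOfGenus g C'.hom} (m : obj T C hC ⟶ obj T C' hC')
    (hm : IsVert (CurvSt.Mgn S g 0) m) : Nonempty (C ≅ C') := by
  have h1 : (CurvSt.Mgn S g 0).p.map m = 𝟙 T := hm.map_eq
  have key : ∀ b : T ⟶ T, b = 𝟙 T → ∀ c : C.left ⟶ C'.left, IsPullback c C.hom C'.hom b.left →
      IsPullback c C.hom C'.hom (𝟙 T.left) := by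
    rintro _ rfl c hc
    exact hc
  have h2 : IsPullback m.hom.top C.hom C'.hom (𝟙 T.left) := key _ h1 _ (sq_of_hom m)
  have h3 : IsIso m.hom.top := h2.isIso_fst_of_isIso
  refine ⟨Over.isoMk (asIso m.hom.top) ?_⟩
  exact h2.w.trans (Category.comp_id _)

section Val

variable {M : AlgSp.Sp S} (π : CurvSt.Mgn S g 0 ⥤ᵇ AlgSt.ofSp M)

/-- The value of `π` at a curve. -/
noncomputable def val (T : Over S) (C : Over T.left) (hC : ModFun.IsCurveOfGenus g C.hom) : M.obj.obj (op T) :=
  secOf π (obj T C hC) rfl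

theorem obj_eq_val (T : Over S) (C : Over T.left) (hC : ModFun.IsCurveOfGenus g C.hom) :
    π.obj (obj T C hC) = ⟨T, val π T C hC⟩ := secOf_spec π _ _

theorem val_pull {T T' : Over S} (k : T' ⟶ T) (C : Over T.left) (hC : ModFun.IsCurveOfGenus g C.hom)
    (hC' : ModFun.IsCurveOfGenus g ((Over.pullback k.left).obj C).hom) :
    val π T' ((Over.pullback k.left).obj C) hC' = M.obj.map k.op (val π T C hC) :=
  (secOf_map π (z := obj T C hC) rfl rfl (isHomLift_pullMor k hC hC')).symm

theorem val_iso {T : Over S} {C C' : Over T.left} (hC : ModFun.IsCurveOfGenus g C.hom)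
    (hC' : ModFun.IsCurveOfGenus g C'.hom) (e : C ≅ C') : val π T C hC = val π T C' hC' := by
  obtain ⟨m, hm⟩ := exists_vert_of_iso hC hC' e
  have h := eq_of_vert (hm.map π)
  rw [obj_eq_val, obj_eq_val] at h
  exact elt_inj h

end Val

section PVal

variable {P : ObjectProperty (Over S)} {N : Over S} (ψ : (ModFun.Mg S g).Hom P N)

/-- The value of `ψ` at an object of `Mgn S g 0`. -/
def pval (z : (CurvSt.Mgn S g 0).obj) (hT : P z.obj.base) : z.obj.base ⟶ N :=
  ψ.app z.obj.base (Over.mk z.obj.f) hT ⟨trivial, z.property.1⟩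

theorem pval_obj (T : Over S) (C : Over T.left) (hC : ModFun.IsCurveOfGenus g C.hom) (hT : P T)
    (hx : (ModFun.Mg S g).ok T C) : pval ψ (obj T C hC) hT = ψ.app T C hT hx := rfl

theorem pval_hom {z w : (CurvSt.Mgn S g 0).obj} (m : z ⟶ w) (hz : P z.obj.base) (hw : P w.obj.base) :
    pval ψ z hz = (CurvSt.Mgn S g 0).p.map m ≫ pval ψ w hw := by
  let k : z.obj.base ⟶ w.obj.base := (CurvSt.Mgn S g 0).p.map m
  have hk : (ModFun.Mg S g).ok z.obj.base ((ModFun.Mg S g).pull k (Over.mk w.obj.f)) :=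
    ⟨trivial, isCurve_pull k (C := Over.mk w.obj.f) w.property.1⟩
  have h1 := ψ.natural k (Over.mk w.obj.f) hw hz ⟨trivial, w.property.1⟩ hk
  refine Eq.trans ?_ h1
  refine ψ.resp _ _ hz _ _ ?_
  refine ⟨Over.isoMk ((sq_of_hom m).isoPullback) ?_⟩
  exact (sq_of_hom m).isoPullback_hom_snd

end PVal

end K610.Mg
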