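import Groth.Agent.Sga3C.QuotQFAt
import Mathlib.AlgebraicGeometry.ZariskisMainTheorem
import Mathlib.AlgebraicGeometry.AlgClosed.Basic
import Mathlib.FieldTheory.IsAlgClosed.AlgebraicClosure

/-!
# Local quasi-finiteness tested on geometric fibres
-/

set_option autoImplicit false
set_option backward.isDefEq.respectTransparency false
set_option backward.isDefEq.respectTransparency.types false
universe u
open CategoryTheory CategoryTheory.Limits AlgebraicGeometry

namespace K610.Mg

/-- A closed immersion through which all sections over an algebraically closed field factor is surjective. -/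
theorem surjective_of_sections {Ω : Type u} [Field Ω] [IsAlgClosed Ω] {F W : Scheme.{u}}
    (w : W ⟶ Spec (CommRingCat.of Ω)) [LocallyOfFiniteType w] (j : F ⟶ W) [IsClosedImmersion j]
    (H : ∀ ω : Spec (CommRingCat.of Ω) ⟶ W, ω ≫ w = 𝟙 _ → ∃ ω', ω' ≫ j = ω) : Function.Surjective j := by
  have : JacobsonSpace ↥W := LocallyOfFiniteType.jacobsonSpace w
  have h1 : IsClosed (Set.range j) := j.isClosedEmbedding.isClosed_range
  have h2 : closedPoints W ⊆ Set.range j := by
    intro x hx
    obtain ⟨ω', hω'⟩ := H (pointOfClosedPoint w x hx) (pointOfClosedPoint_comp w x hx)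
    refine ⟨ω' (IsLocalRing.closedPoint Ω), ?_⟩
    rw [← Scheme.Hom.comp_apply, hω', pointOfClosedPoint_apply]
  have h3 : closure (closedPoints W) ⊆ Set.range j := h1.closure_subset_iff.2 h2
  rw [closure_closedPoints] at h3
  exact fun x => h3 (Set.mem_univ x)

theorem discrete_of_sections {Ω : Type u} [Field Ω] [IsAlgClosed Ω] {F W : Scheme.{u}}
    (w : W ⟶ Spec (CommRingCat.of Ω)) [LocallyOfFiniteType w] (j : F ⟶ W) [IsClosedImmersion j]
    [LocallyQuasiFinite (j ≫ w)]
    (H : ∀ ω : Spec (CommRingCat.of Ω) ⟶ W, ω ≫ w = 𝟙 _ → ∃ ω', ω' ≫ j = ω) : DiscreteTopology W := by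
  have h0 : DiscreteTopology F := by
    have h := (j ≫ w).isDiscrete_preimage_singleton (default : Spec (CommRingCat.of Ω))
    have h2 : (j ≫ w) ⁻¹' {(default : Spec (CommRingCat.of Ω))} = Set.univ := by
      ext x
      exact ⟨fun _ => trivial, fun _ => Subsingleton.elim _ _⟩
    rw [h2] at h
    exact isDiscrete_univ_iff.mp h
  have h1 := surjective_of_sections w j H
  rw [discreteTopology_iff_isOpen_singleton]
  intro x
  obtain ⟨y, rfl⟩ := h1 x
  have h2 : IsClosed ({y}ᶜ : Set F) := isClosed_discrete _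
  have h3 : IsClosed (j '' ({y}ᶜ : Set F)) := j.isClosedEmbedding.isClosedMap _ h2
  have h4 : (j '' ({y}ᶜ : Set F))ᶜ = {j y} := by
    rw [Set.image_compl_eq ⟨j.isClosedEmbedding.injective, h1⟩, compl_compl, Set.image_singleton]
  rw [← h4]
  exact h3.isOpen_compl

/-- Every point of a scheme is the image of a geometric point. -/
theorem exists_geom_pt {V : Scheme.{u}} (v : V) : ∃ (Ω : Type u) (_ : Field Ω) (_ : IsAlgClosed Ω)
    (w₀ : Spec (CommRingCat.of Ω) ⟶ V), w₀ (IsLocalRing.closedPoint Ω) = v := by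
  let φ : V.residueField v ⟶ CommRingCat.of (AlgebraicClosure (V.residueField v)) :=
    CommRingCat.ofHom (algebraMap (V.residueField v) (AlgebraicClosure (V.residueField v)))
  refine ⟨AlgebraicClosure (V.residueField v), inferInstance, inferInstance, Spec.map φ ≫ V.fromSpecResidueField v, ?_⟩
  exact (Scheme.Hom.comp_apply _ _ _).trans (Scheme.fromSpecResidueField_apply v _)

/-- Local quasi-finiteness tested on geometric fibres. -/
theorem lqf_of_geom {V A : Scheme.{u}} (q : V ⟶ A) [LocallyOfFiniteType q]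
    (H : ∀ (Ω : Type u) [Field Ω] [IsAlgClosed Ω] (w₀ : Spec (CommRingCat.of Ω) ⟶ V),
      ∃ (W : Scheme.{u}) (w₁ : W ⟶ V) (w₂ : W ⟶ Spec (CommRingCat.of Ω)) (F : Scheme.{u}) (j : F ⟶ W),
        IsPullback w₁ w₂ q (w₀ ≫ q) ∧ IsClosedImmersion j ∧ LocallyQuasiFinite (j ≫ w₂) ∧
        ∀ ω : Spec (CommRingCat.of Ω) ⟶ W, ω ≫ w₂ = 𝟙 _ → ∃ ω', ω' ≫ j = ω) : LocallyQuasiFinite q := by
  rw [← Scheme.Hom.quasiFiniteLocus_eq_top_iff]
  ext v
  simp only [TopologicalSpace.Opens.coe_top, Set.mem_univ, iff_true]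
  change q.QuasiFiniteAt v
  obtain ⟨Ω, _, _, w₀, hw₀⟩ := exists_geom_pt v
  obtain ⟨W, w₁, w₂, F, j, sq, hj, hq, hω⟩ := H Ω w₀
  have : LocallyOfFiniteType w₂ := MorphismProperty.of_isPullback sq inferInstance
  have hd : DiscreteTopology W := discrete_of_sections w₂ j hω
  let p : W := sq.lift w₀ (𝟙 _) (Category.id_comp _).symm (IsLocalRing.closedPoint Ω)
  have hp : w₁ p = v := by
    rw [← hw₀]
    change w₁ (sq.lift w₀ (𝟙 _) (Category.id_comp _).symm (IsLocalRing.closedPoint Ω)) = _
    rw [← Scheme.Hom.comp_apply, sq.lift_fst]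
  rw [← hp]
  refine Groth.Agent.Sga3C.QuotQFAt.quasiFiniteAt_of_isPullback_descent sq p ?_
  rw [Scheme.Hom.quasiFiniteAt_iff_isOpen_singleton_asFiber]
  have he : Continuous (fun y : w₂.fiber (w₂ p) => ((w₂.fiberHomeo (w₂ p) y).1 : W)) :=
    continuous_subtype_val.comp (w₂.fiberHomeo (w₂ p)).continuous
  have hinj : Function.Injective (fun y : w₂.fiber (w₂ p) => ((w₂.fiberHomeo (w₂ p) y).1 : W)) :=
    Subtype.val_injective.comp (w₂.fiberHomeo (w₂ p)).injective
  have h5 : ({w₂.asFiber p} : Set (w₂.fiber (w₂ p))) =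
      (fun y : w₂.fiber (w₂ p) => ((w₂.fiberHomeo (w₂ p) y).1 : W)) ⁻¹' {p} := by
    ext y
    constructor
    · rintro rfl
      simp [Scheme.Hom.asFiber]
    · intro hy
      refine hinj ?_
      rw [Set.mem_preimage, Set.mem_singleton_iff] at hy
      refine hy.trans ?_
      simp [Scheme.Hom.asFiber]
  rw [h5]
  exact (isOpen_discrete _).preimage he

end K610.Mg
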