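import Groth.Agent.GIT.K610.MgObj
import Groth.Agent.GIT.K610.LqfGeom
import Groth.Agent.AlgSt.K734.QDM
import Groth.Agent.AlgSt.K748.SmOver
import Groth.Agent.AlgSt.K743.Comp
import Groth.Agent.AlgSt.K734.PairSp
import Groth.Agent.AlgSt.K749.Dom
import Groth.Agent.AlgSp.K597.Affine
import Mathlib.AlgebraicGeometry.Morphisms.FiniteType

/-!
# A smooth chart of `Mgn S g 0` over which the curve has a section

* `exists_pairRep_of_affine` : `U ×_𝒳 V` is a scheme affine over `U × V` when the diagonal is affine.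
* `smooth_s`, `smooth_t` : its projections are smooth for smooth charts.
* `exists_chart` : a Noetherian smooth surjective chart of `Mgn S g 0`, smooth over `S`, with a section of the curve.
-/

set_option autoImplicit false
set_option backward.isDefEq.respectTransparency false
set_option backward.isDefEq.respectTransparency.types false
universe w v u₃ u
open CategoryTheory CategoryTheory.Limits AlgebraicGeometry Opposite
open K734.Fib K746

namespace K610.Mg

open K734.Rep K734.Pair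

section Pair

variable {S : Scheme.{u}}

open K739.Isom K739.Diag K739.Rep K734.FpDiag in
/-- Existence of `PairRep` from an affine diagonal. -/
theorem exists_pairRep_of_affine {𝒳 : BasedCategory.{u, u₃} (Over S)} {U V W : Over S}
    (h𝒳 : FibCat.IsFibGrpd 𝒳.p) (x : FibCat.overCat U ⥤ᵇ 𝒳) (y : FibCat.overCat V ⥤ᵇ 𝒳)
    {a : W ⟶ U} {b : W ⟶ V}
    (hΔ : AlgSt.RepByAlgSpWith AlgSp.IsAffineMor (FibCat.diag (FibCat.toSelf 𝒳)))
    (hW : ∀ {T : Over S} (u : T ⟶ U) (v : T ⟶ V), ∃ w : T ⟶ W, w ≫ a = u ∧ w ≫ b = v)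
    (hW' : ∀ {T : Over S} (w w' : T ⟶ W), w ≫ a = w' ≫ a → w ≫ b = w' ≫ b → w = w') :
    ∃ (R : Over S) (G : PairRep x y R) (π : R ⟶ W), π ≫ a = G.s ∧ π ≫ b = G.t ∧ IsAffineHom π.left := by
  have hS : FibCat.IsFibGrpd (FibCat.selfOver (Over S)).p := K735.Fp.isFibGrpd_selfOver
  obtain ⟨F, β, hβ⟩ := (repByAlgSpWith_diag_iff AlgSp.IsAffineMor (FibCat.toSelf 𝒳) h𝒳 hS).1 hΔ W
    (BasedFunctor.comp (overMap a) x) (BasedFunctor.comp (overMap b) y) (selfIso _ _)
  have hr := K597.Affine.repWith_of_isAffineMor hβ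
  obtain ⟨R, r, fst, sq⟩ := hr.1 (𝟙 _)
  have hi : IsIso fst := sq.isIso_fst_of_isIso
  let γ : (AlgSp.yon S).obj R ≅ F.obj := asIso fst
  let γ' : (AlgSp.pyon S).obj R ≅ F.obj.obj := (sheafToPresheaf (AlgSp.J S) _).mapIso γ
  obtain ⟨G, π, h1, h2, h3⟩ := exists_pairRep_of_psh h𝒳 hW hW' hS (selfIso _ _) (γ' ≪≫ β)
  refine ⟨R, G, π, h1, h2, ?_⟩
  have h4 : (AlgSp.yon S).map π = γ.hom ≫ ObjectProperty.homMk (β.hom ≫ toBase _ _ _ _ h𝒳 hS) := by
    apply ObjectProperty.hom_ext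
    exact h3.symm.trans (Category.assoc _ _ _)
  have h5 : AlgSp.RepWith @IsAffineHom ((AlgSp.yon S).map π) := by
    rw [h4]
    exact (MorphismProperty.cancel_left_of_respectsIso (AlgSp.RepWith @IsAffineHom) γ.hom _).2 hr
  exact (AlgSp.repWith_yon_map_iff _ _).1 h5

variable {𝒳 : BasedCategory.{v, u₃} (Over S)} {U V R : Over S} {x : FibCat.overCat U ⥤ᵇ 𝒳}
  {y : FibCat.overCat V ⥤ᵇ 𝒳}

theorem smooth_s (h𝒳 : FibCat.IsFibGrpd 𝒳.p) (hy : AlgSt.RepByAlgSpWith (AlgSp.LocP @Smooth) y) (G : PairRep x y R) :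
    Smooth G.s.left :=
  AlgSp.locP_yon_map (IsRep.prop nice_smooth.bc nice_smooth.loc hy (AlgSp.IsAlgSpace.yon_obj U)
    (isRep_of_pair G h𝒳))

theorem smooth_t (h𝒳 : FibCat.IsFibGrpd 𝒳.p) (hx : AlgSt.RepByAlgSpWith (AlgSp.LocP @Smooth) x) (G : ChartRep x R) :
    Smooth G.t.left := K734.QDM.prop_t h𝒳 G @Smooth (smooth_s h𝒳 hx G)

end Pair

section Chart

variable {S : Scheme.{u}} {g : ℕ}

theorem lift_congr {C : Type*} [Category C] {D : Type*} [Category D] {p : D ⥤ C} {a b : C} {f f' : a ⟶ b} (h : f = f')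
    {x y : D} {φ : x ⟶ y} (H : p.IsHomLift f φ) : p.IsHomLift f' φ := by
  subst h
  exact H

/-- The data of a Noetherian smooth chart of `Mgn S g 0` with a section of the curve. -/
structure GoodChart (S : Scheme.{u}) (g : ℕ) where
  U : Over S
  x : FibCat.overCat U ⥤ᵇ CurvSt.Mgn S g 0
  R : Over S
  G : ChartRep x R
  C : Over U.left
  hC : ModFun.IsCurveOfGenus g C.hom
  hz : Xo x (𝟙 U) = obj U C hC
  σ : U.left ⟶ C.left
  hσ : σ ≫ C.hom = 𝟙 _
  surj : LocSurj (AlgSp.J S) x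
  noethU : IsNoetherian U.left
  noethR : IsNoetherian R.left
  smoothU : Smooth U.hom
  smoothR : Smooth R.hom
  qcU : QuasiCompact U.hom

theorem exists_chart [IsAffine S] [IsNoetherian S] (h𝒳 : FibCat.IsFibGrpd (CurvSt.Mgn S g 0).p)
    (hΔ : AlgSt.RepByAlgSpWith AlgSp.IsAffineMor (FibCat.diag (FibCat.toSelf (CurvSt.Mgn S g 0))))
    (hsm : AlgSt.LocQ (AlgSp.LocP @Smooth) (FibCat.toSelf (CurvSt.Mgn S g 0)))
    (hqc : AlgSt.IsQuasiCompact (CurvSt.Mgn S g 0)) : Nonempty (GoodChart S g) := by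
  obtain ⟨U₀, x₀, hU₀, hx₀, hs₀⟩ := hqc
  have hsm₀ : Smooth U₀.hom := K748.SmOver.smooth_hom_of_locQ h𝒳 hsm x₀ hx₀
  obtain ⟨C₀, hC₀, hz₀⟩ := exists_obj (Xo x₀ (𝟙 U₀)) (Xo_base x₀ (𝟙 U₀))
  let U : Over S := Over.mk (C₀.hom ≫ U₀.hom)
  let f : U ⟶ U₀ := Over.homMk C₀.hom rfl
  let x := BasedFunctor.comp (AlgSt.overMap f) x₀
  have hfs : Smooth f.left := hC₀.1
  have hfp : IsProper f.left := hC₀.2.1
  have hfi : GeometricallyIrreducible f.left := hC₀.2.2.1
  have hfsurj : Surjective f.left := by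
    refine ⟨fun t => ?_⟩
    obtain ⟨Ω, _, _, w₀, rfl⟩ := exists_geom_pt (V := U₀.left) t
    have h1 := (hC₀.2.2.2 Ω w₀ (pullback C₀.hom w₀) (pullback.fst _ _) (pullback.snd _ _)
      (IsPullback.of_hasPullback _ _)).1
    have hne : Nonempty ↥(pullback C₀.hom w₀) := by
      by_contra hne
      have he : IsEmpty (TopologicalSpace.IrreducibleCloseds ↥(pullback C₀.hom w₀)) :=
        ⟨fun Z => hne Z.isIrreducible.nonempty.to_type⟩
      have hb : topologicalKrullDim ↥(pullback C₀.hom w₀) = ⊥ := Order.krullDim_eq_bot_iff.2 he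
      rw [hb] at h1
      exact absurd h1 (by decide)
    obtain ⟨c⟩ := hne
    refine ⟨pullback.fst C₀.hom w₀ c, ?_⟩
    change (C₀.hom) (pullback.fst C₀.hom w₀ c) = _
    rw [← Scheme.Hom.comp_apply, pullback.condition, Scheme.Hom.comp_apply,
      Subsingleton.elim (pullback.snd C₀.hom w₀ c) (IsLocalRing.closedPoint Ω)]
  have hx : AlgSt.RepByAlgSpWith (AlgSp.LocP @Smooth) x :=
    K743.Comp.locP_overMap_comp K597.etLoc_smooth f hfs x₀ hx₀
  have hs : AlgSt.RepByAlgSpWith AlgSp.IsSurjectiveMor x := K743.Comp.surjective_overMap_comp f hfsurj x₀ hs₀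
  have hls : LocSurj (AlgSp.J S) x := K749.Dom.locSurj_of_fppf h𝒳 x
    (K739.Alg.repByAlgSpWith_mono (fun _ _ _ h => K597.locP_mono (fun A B f hf => by
      have := hf
      infer_instance) h) hx)
    (K739.Alg.repByAlgSpWith_mono (fun _ _ _ h => K597.locP_mono (fun A B f hf => by
      have := hf
      infer_instance) h) hx) hs
  have hn₀ : IsNoetherian U₀.left := by
    have : IsLocallyNoetherian U₀.left := LocallyOfFiniteType.isLocallyNoetherian U₀.hom
    exact {}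
  have hnU : IsNoetherian U.left := by
    have : IsLocallyNoetherian U.left := LocallyOfFiniteType.isLocallyNoetherian (Y := U₀.left) f.left
    have : CompactSpace U.left := QuasiCompact.compactSpace_of_compactSpace (Y := U₀.left) f.left
    exact {}
  have hC₀s : Smooth C₀.hom := hC₀.1
  have hsU : Smooth U.hom := MorphismProperty.comp_mem @Smooth C₀.hom U₀.hom hC₀s hsm₀
  have hqU : QuasiCompact U.hom := (HasAffineProperty.iff_of_isAffine (P := @QuasiCompact)).2 hnU.toCompactSpace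
  let W : Over S := Over.mk (pullback.fst U.hom U.hom ≫ U.hom)
  let a : W ⟶ U := Over.homMk (pullback.fst U.hom U.hom) rfl
  let b : W ⟶ U := Over.homMk (pullback.snd U.hom U.hom) pullback.condition.symm
  have hW : ∀ {T : Over S} (u : T ⟶ U) (v : T ⟶ U), ∃ w : T ⟶ W, w ≫ a = u ∧ w ≫ b = v := by
    intro T u v
    refine ⟨Over.homMk (pullback.lift u.left v.left (by rw [Over.w u, Over.w v])) ?_, ?_, ?_⟩
    · change pullback.lift _ _ _ ≫ pullback.fst U.hom U.hom ≫ U.hom = _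
      rw [pullback.lift_fst_assoc, Over.w u]
    · ext1
      exact pullback.lift_fst _ _ _
    · ext1
      exact pullback.lift_snd _ _ _
  have hW' : ∀ {T : Over S} (w w' : T ⟶ W), w ≫ a = w' ≫ a → w ≫ b = w' ≫ b → w = w' := by
    intro T w w' h1 h2
    ext1
    exact pullback.hom_ext (congrArg CommaMorphism.left h1) (congrArg CommaMorphism.left h2)
  obtain ⟨R, G, π, h1, h2, h3⟩ := exists_pairRep_of_affine h𝒳 x x hΔ hW hW'
  have hRs : Smooth G.s.left := smooth_s h𝒳 hx G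
  have hsR : Smooth R.hom := by
    rw [← Over.w G.s]
    infer_instance
  have hnR : IsNoetherian R.left := by
    have : IsLocallyNoetherian R.left := LocallyOfFiniteType.isLocallyNoetherian G.s.left
    have hWc : CompactSpace ↥W.left := by
      have : QuasiCompact (pullback.fst U.hom U.hom) := inferInstance
      exact QuasiCompact.compactSpace_of_compactSpace (X := pullback U.hom U.hom) (Y := U.left)
        (pullback.fst U.hom U.hom)
    have : CompactSpace R.left := QuasiCompact.compactSpace_of_compactSpace π.left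
    exact {}
  obtain ⟨C, hC, hz⟩ := exists_obj (Xo x (𝟙 U)) (Xo_base x (𝟙 U))
  have h₀ : f ≫ 𝟙 U₀ = 𝟙 U ≫ f := by simp
  have hzx : Xo x₀ (𝟙 U ≫ f) = Xo x (𝟙 U) := rfl
  let m : obj U C hC ⟶ obj U₀ C₀ hC₀ := eqToHom hz.symm ≫ rs x₀ f (u := 𝟙 U₀) (u' := 𝟙 U ≫ f) h₀ ≫ eqToHom hz₀
  have hm : (CurvSt.Mgn S g 0).p.IsHomLift f m := by
    have l1 := (IsVert.eqToHom hz.symm).lift (R := U) rfl
    have l2 := rs_lift x₀ f (u := 𝟙 U₀) (u' := 𝟙 U ≫ f) h₀
    have l3 := (IsVert.eqToHom hz₀).lift (Xo_base x₀ (𝟙 U₀))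
    have l4 : (CurvSt.Mgn S g 0).p.IsHomLift f (rs x₀ f (u := 𝟙 U₀) (u' := 𝟙 U ≫ f) h₀ ≫ eqToHom hz₀) := by
      have := IsHomLift.comp (CurvSt.Mgn S g 0).p f (𝟙 U₀) (rs x₀ f (u := 𝟙 U₀) (u' := 𝟙 U ≫ f) h₀)
        (eqToHom hz₀)
      exact lift_congr (Category.comp_id f) this
    have l5 := IsHomLift.comp (CurvSt.Mgn S g 0).p (𝟙 U) f (eqToHom hz.symm)
      (rs x₀ f (u := 𝟙 U₀) (u' := 𝟙 U ≫ f) h₀ ≫ eqToHom hz₀)
    exact lift_congr (Category.id_comp f) l5
  have hmf : (CurvSt.Mgn S g 0).p.map m = f := by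
    have := IsHomLift.fac' (CurvSt.Mgn S g 0).p f m
    simpa using this
  have sq : IsPullback m.hom.top C.hom C₀.hom C₀.hom := by
    have key : ∀ b : U ⟶ U₀, b = f → ∀ c : C.left ⟶ C₀.left, IsPullback c C.hom C₀.hom b.left →
        IsPullback c C.hom C₀.hom C₀.hom := by
      rintro _ rfl c hc
      exact hc
    exact key _ hmf _ (sq_of_hom m)
  exact ⟨{ U := U, x := x, R := R, G := G, C := C, hC := hC, hz := hz
           σ := sq.lift (𝟙 C₀.left) (𝟙 C₀.left) rfl
           hσ := sq.lift_snd _ _ _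
           surj := hls, noethU := hnU, noethR := hnR, smoothU := hsU, smoothR := hsR, qcU := hqU }⟩

end Chart

end K610.Mg
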