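import Groth.Agent.GIT.K610.MgObj
import Groth.Agent.AlgSt.K746.ModChart
import Groth.Agent.AlgSt.K746.GeomBij

/-!
# From a coarse moduli space of the stack `Mgn S g 0` to a coarse moduli scheme of the problem `ModFun.Mg S g`

`isCoarseModuli` : if `π : Mgn S g 0 ⥤ᵇ ofSp M` is a coarse moduli space, `M` is represented by a scheme `M₀`, and
`x : (Sch/U) ⥤ᵇ Mgn S g 0` is a chart with `U` and `U ×_𝒳 U` Noetherian, then `M₀` is a coarse moduli scheme for
`ModFun.Mg S g` on Noetherian test schemes.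
-/

set_option autoImplicit false
set_option backward.isDefEq.respectTransparency false
set_option backward.isDefEq.respectTransparency.types false
universe u
open CategoryTheory CategoryTheory.Limits AlgebraicGeometry Opposite
open K734.Fib K746

namespace K610.Mg

variable {S : Scheme.{u}} {g : ℕ}

section Noeth

/-- Covering sieves of a locally Noetherian scheme contain jointly surjective families of Noetherian schemes. -/
theorem exists_noeth_family {T : Over S} [IsLocallyNoetherian T.left] {R : Sieve T} (hR : R ∈ AlgSp.J S T) :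
    ∃ (T' : ↥T.left → Over S) (q : ∀ t, T' t ⟶ T), (∀ t, R (q t)) ∧ (∀ t, IsNoetherian (T' t).left) ∧
      Sieve.ofArrows T' q ∈ AlgSp.J S T := by
  obtain ⟨T', q, h1, h2, h3, h4⟩ := K598.Site.exists_family_of_mem hR
  choose x hx using h4
  have key : ∀ t, ∃ V : (T' t).left.Opens, IsAffineOpen V ∧ x t ∈ V := fun t => by
    obtain ⟨V, hV, hxV, -⟩ := exists_isAffineOpen_mem_and_subset (x := x t) (U := ⊤) trivial
    exact ⟨V, hV, hxV⟩
  choose V hV hxV using key
  have hn : ∀ t, IsNoetherian (V t).toScheme := fun t => by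
    have : LocallyOfFinitePresentation (q t).left := h3 t
    have : IsLocallyNoetherian (V t).toScheme := LocallyOfFiniteType.isLocallyNoetherian ((V t).ι ≫ (q t).left)
    have : IsAffine (V t).toScheme := hV t
    exact {}
  refine ⟨fun t => Over.mk ((V t).ι ≫ (T' t).hom), fun t => Over.homMk ((V t).ι) ≫ q t,
    fun t => R.downward_closed (h1 t) _, hn, ?_⟩
  refine K598.Site.mem_J_of_family (fun t => Over.mk ((V t).ι ≫ (T' t).hom)) (fun t => Over.homMk ((V t).ι) ≫ q t)
    (fun t => Sieve.ofArrows_mk _ _ t) (fun t => ?_) (fun t => ?_) fun t => ⟨t, ⟨x t, hxV t⟩, ?_⟩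
  · have : Flat (q t).left := h2 t
    exact inferInstanceAs (Flat ((V t).ι ≫ (q t).left))
  · have : LocallyOfFinitePresentation (q t).left := h3 t
    exact inferInstanceAs (LocallyOfFinitePresentation ((V t).ι ≫ (q t).left))
  · exact hx t

/-- Morphisms to a scheme from a locally Noetherian scheme can be compared on Noetherian schemes over a covering sieve. -/
theorem hom_ext_noeth {T N : Over S} [IsLocallyNoetherian T.left] {R : Sieve T} (hR : R ∈ AlgSp.J S T) {a b : T ⟶ N}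
    (h : ∀ (T' : Over S) (f : T' ⟶ T), IsNoetherian T'.left → R f → f ≫ a = f ≫ b) : a = b := by
  obtain ⟨T', q, h1, h2, h3⟩ := exists_noeth_family hR
  apply (AlgSp.yon S).map_injective
  refine K598.Site.hom_ext_sieve h3 fun T'' φ hφ => ?_
  obtain ⟨W, k, _, ⟨i⟩, rfl⟩ := hφ
  rw [← Functor.map_comp, ← Functor.map_comp, Category.assoc, Category.assoc, h _ _ (h2 i) (h1 i)]

end Noeth

section PV

variable {P : ObjectProperty (Over S)} {N : Over S} (ψ : (ModFun.Mg S g).Hom P N)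

/-- The value of `ψ` at an object of `Mgn S g 0` over `T`. -/
def pv {T : Over S} (z : (CurvSt.Mgn S g 0).obj) (hz : (CurvSt.Mgn S g 0).p.obj z = T) (hT : P T) : T ⟶ N :=
  eqToHom hz.symm ≫ pval ψ z (by rw [← p_obj_base, hz]; exact hT)

theorem pv_map {T T' : Over S} {f : T' ⟶ T} {z w : (CurvSt.Mgn S g 0).obj} {m : z ⟶ w}
    (hm : (CurvSt.Mgn S g 0).p.IsHomLift f m) (hz : (CurvSt.Mgn S g 0).p.obj z = T')
    (hw : (CurvSt.Mgn S g 0).p.obj w = T) (hT' : P T') (hT : P T) :
    pv ψ z hz hT' = f ≫ pv ψ w hw hT := by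
  subst hz hw
  have h1 : f = (CurvSt.Mgn S g 0).p.map m := by
    have := IsHomLift.fac' (CurvSt.Mgn S g 0).p f m
    simpa using this.symm
  subst h1
  simp only [pv, eqToHom_refl, Category.id_comp]
  exact pval_hom ψ m hT' hT

theorem pv_obj (T : Over S) (C : Over T.left) (hC : ModFun.IsCurveOfGenus g C.hom) (hT : P T)
    (hx : (ModFun.Mg S g).ok T C) : pv ψ (obj T C hC) rfl hT = ψ.app T C hT hx := by
  simp only [pv, eqToHom_refl, Category.id_comp]
  rfl

end PV

section Phi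

variable {M : AlgSp.Sp S} (π : CurvSt.Mgn S g 0 ⥤ᵇ AlgSt.ofSp M) {M₀ : Over S} (e : M ≅ (AlgSp.yon S).obj M₀)

/-- The morphism from the problem `ModFun.Mg S g` to the functor of points of the coarse moduli scheme. -/
noncomputable def phi (P : ObjectProperty (Over S)) : (ModFun.Mg S g).Hom P M₀ where
  app T C _ hC := (e.hom.hom.app (op T) (val π T C hC.2)).down
  natural {T T'} k C hT hT' hx hx' := by
    have h1 : e.hom.hom.app (op T') (M.obj.map k.op (val π T C hx.2)) =
        ((AlgSp.yon S).obj M₀).obj.map k.op (e.hom.hom.app (op T) (val π T C hx.2)) :=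
      NatTrans.naturality_apply e.hom.hom k.op _
    have h2 : val π T' ((Over.pullback k.left).obj C) hx'.2 = M.obj.map k.op (val π T C hx.2) :=
      val_pull π k C hx.2 hx'.2
    change (e.hom.hom.app (op T') (val π T' ((Over.pullback k.left).obj C) hx'.2)).down = _
    rw [h2, h1]
    rfl
  resp {T} C C' hT hx hy h := by
    obtain ⟨i⟩ := h
    rw [val_iso π hx.2 hy.2 i]

variable {P : ObjectProperty (Over S)}

theorem phi_app (T : Over S) (C : Over T.left) (hT : P T) (hC : (ModFun.Mg S g).ok T C) :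
    ((phi π e P).app T C hT hC) = (e.hom.hom.app (op T) (val π T C hC.2)).down := rfl

theorem yon_phi_app (T : Over S) (C : Over T.left) (hT : P T) (hC : (ModFun.Mg S g).ok T C) {R : Over S}
    (f : R ⟶ T) (z : (CurvSt.Mgn S g 0).obj) (hz : (CurvSt.Mgn S g 0).p.obj z = R)
    (m : z ⟶ obj T C hC.2) (hm : (CurvSt.Mgn S g 0).p.IsHomLift f m) :
    f ≫ (phi π e P).app T C hT hC = (e.hom.hom.app (op R) (secOf π z hz)).down := by
  have h1 : e.hom.hom.app (op R) (M.obj.map f.op (val π T C hC.2)) =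
      ((AlgSp.yon S).obj M₀).obj.map f.op (e.hom.hom.app (op T) (val π T C hC.2)) :=
    NatTrans.naturality_apply e.hom.hom f.op _
  have h2 : M.obj.map f.op (val π T C hC.2) = secOf π z hz := secOf_map π (z := obj T C hC.2) rfl hz hm
  rw [← h2, h1]
  rfl

theorem geomBij (hπ : AlgSt.GeomPtBij π) : ModFun.GeomBij (ModFun.Mg S g) M₀ (phi π e P) := by
  intro Ω _ _ t hP
  refine ⟨fun f => ?_, fun C C' hx hy hxy => ?_⟩
  · obtain ⟨z, hz, hm⟩ := GeomBij.surj hπ t (e.inv.hom.app (op (Over.mk t)) ⟨f⟩)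
    obtain ⟨C, hC, rfl⟩ := exists_obj z hz
    refine ⟨C, ⟨trivial, hC⟩, ?_⟩
    rw [phi_app]
    have h1 : val π (Over.mk t) C hC = e.inv.hom.app (op (Over.mk t)) ⟨f⟩ := by
      rw [obj_eq_val] at hm
      exact elt_inj hm
    rw [h1]
    have h2 : (e.inv ≫ e.hom).hom.app (op (Over.mk t)) ⟨f⟩ = ⟨f⟩ := by rw [e.inv_hom_id]; rfl
    exact congrArg ULift.down h2
  · rw [phi_app, phi_app] at hxy
    have h1 : val π (Over.mk t) C hx.2 = val π (Over.mk t) C' hy.2 := by
      have h2 := congrArg (fun a : (Over.mk t ⟶ M₀) => e.inv.hom.app (op (Over.mk t)) ⟨a⟩) hxy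
      have h3 : ∀ m : M.obj.obj (op (Over.mk t)),
          e.inv.hom.app (op (Over.mk t)) ⟨(e.hom.hom.app (op (Over.mk t)) m).down⟩ = m := fun m => by
        have h4 : (e.hom ≫ e.inv).hom.app (op (Over.mk t)) m = m := by rw [e.hom_inv_id]; rfl
        exact h4
      simp only [h3] at h2
      exact h2
    obtain ⟨m, hm⟩ := GeomBij.inj hπ t (x := obj (Over.mk t) C hx.2) (y := obj (Over.mk t) C' hy.2) rfl rfl
      (by rw [obj_eq_val, obj_eq_val, h1])
    exact iso_of_vert m hm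

end Phi

section Main

variable {M : AlgSp.Sp S} {π : CurvSt.Mgn S g 0 ⥤ᵇ AlgSt.ofSp M} {M₀ : Over S} (e : M ≅ (AlgSp.yon S).obj M₀)
  {U R : Over S} {x : FibCat.overCat U ⥤ᵇ CurvSt.Mgn S g 0}

theorem isBestApprox (h𝒳 : FibCat.IsFibGrpd (CurvSt.Mgn S g 0).p)
    (hπ : AlgSt.IsCatModuli π) (hx : LocSurj (AlgSp.J S) x) (hU : IsNoetherian U.left)
    (G : ChartRep x R) (hR : IsNoetherian R.left) :
    ModFun.IsBestApprox (fun T => IsNoetherian T.left) (ModFun.Mg S g) M₀ (phi π e (fun T => IsNoetherian T.left)) := by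
  intro N ψ
  obtain ⟨p, ⟨ip⟩⟩ := K734.Rep.exists_ofSpMap (BasedFunctor.comp (chF x) π)
  have hp : ∀ y, π.obj ((chF x).obj y) = (AlgSt.ofSpMap p).obj y := fun y => obj_eq_of_iso ip y
  have hcat := (RelBy.isCatModuliIn_iff h𝒳 (relBy_chF h𝒳 G) hx.chF hp).1 hπ
  -- the universal curve
  obtain ⟨CU, hCU, hzU⟩ := exists_obj (Xo x (𝟙 U)) (Xo_base x (𝟙 U))
  let a : U ⟶ N := pv ψ (Xo x (𝟙 U)) (Xo_base x (𝟙 U)) hU
  have hpv : ∀ {T : Over S} (u : T ⟶ U) (hT : IsNoetherian T.left), pv ψ (Xo x u) (Xo_base x u) hT = u ≫ a :=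
    fun u hT => pv_map ψ (rs_lift x u (Category.comp_id u)) _ _ _ _
  have hst : G.s ≫ a = G.t ≫ a := by
    rw [← hpv G.s hR, ← hpv G.t hR]
    have h1 := pv_map ψ (G.vert.lift (Xo_base x G.s)) (Xo_base x G.s) (Xo_base x G.t) hR hR
    rw [Category.id_comp] at h1
    exact h1
  -- `p` at a point of `U`
  have hpt : ∀ {T : Over S} (u : T ⟶ U), secOf π (Xo x u) (Xo_base x u) = p.hom.app (op T) ⟨u⟩ := by
    intro T u
    refine secOf_eq π _ ?_
    exact hp ⟨T, ⟨u⟩⟩
  -- comparison of `g : M ⟶ N` with `a`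
  have key : ∀ f : M₀ ⟶ N, p ≫ e.hom ≫ (AlgSp.yon S).map f = (AlgSp.yon S).map a ↔
      ∀ (T : Over S) (C : (ModFun.Mg S g).Fam T) (hT : IsNoetherian T.left) (hC : (ModFun.Mg S g).ok T C),
        ψ.app T C hT hC = (phi π e (fun T => IsNoetherian T.left)).app T C hT hC ≫ f := by
    intro f
    constructor
    · intro hf T C hT hC
      obtain ⟨Q, hQ, hz⟩ := hx (obj T C hC.2)
      have : IsNoetherian T.left := hT
      refine hom_ext_noeth (T := T) (R := Q) hQ fun T' f' hT' hf' => ?_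
      obtain ⟨y, m, hm⟩ := hz f' hf'
      have hy : y.left = T' := (x.w_obj y).symm.trans (IsHomLift.domain_eq (CurvSt.Mgn S g 0).p f' m)
      subst hy
      have h1 : pv ψ (x.obj y) (x.w_obj y) hT' = f' ≫ pv ψ (obj T C hC.2) rfl hT := pv_map ψ hm _ _ _ _
      rw [pv_obj ψ T C hC.2 hT hC] at h1
      refine h1.symm.trans ((hpv y.hom hT').trans ?_)
      have h2 := yon_phi_app π e (P := fun T => IsNoetherian T.left) T C hT hC f' (x.obj y) (x.w_obj y) m hm
      rw [← Category.assoc, h2]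
      have h3 := hpt y.hom
      have h4 : secOf π (x.obj y) (x.w_obj y) = p.hom.app (op y.left) ⟨y.hom⟩ := h3
      rw [h4]
      have h5 : (p ≫ e.hom ≫ (AlgSp.yon S).map f).hom.app (op y.left) ⟨y.hom⟩ =
          ((AlgSp.yon S).map a).hom.app (op y.left) ⟨y.hom⟩ := by rw [hf]
      exact (congrArg ULift.down h5).symm
    · intro hf
      apply ObjectProperty.hom_ext
      ext Top ⟨u⟩
      obtain ⟨T, rfl⟩ : ∃ T, Top = op T := ⟨Top.unop, rfl⟩
      have h1 := hf U CU hU ⟨trivial, hCU⟩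
      have h2 := yon_phi_app π e U CU hU (P := fun T => IsNoetherian T.left) ⟨trivial, hCU⟩ u (Xo x u) (Xo_base x u)
        (rs x u (Category.comp_id u) ≫ eqToHom hzU) (by
          have h3 := (IsVert.eqToHom hzU).lift (Xo_base x (𝟙 U))
          have h4 := rs_lift x u (Category.comp_id u)
          have h5 := IsHomLift.comp (CurvSt.Mgn S g 0).p u (𝟙 U) (rs x u (Category.comp_id u)) (eqToHom hzU)
          rwa [Category.comp_id] at h5)
      have ha : a = ψ.app U CU hU ⟨trivial, hCU⟩ := by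
        have h3 := pv_map ψ ((IsVert.eqToHom hzU).lift (Xo_base x (𝟙 U))) (Xo_base x (𝟙 U)) rfl hU hU
        rw [Category.id_comp, pv_obj ψ U CU hCU hU ⟨trivial, hCU⟩] at h3
        exact h3
      apply ULift.ext
      change (e.hom.hom.app (op T) (p.hom.app (op T) ⟨u⟩)).down ≫ f = u ≫ a
      rw [← hpt u, ← h2, Category.assoc, ← h1, ← ha]
  obtain ⟨g₀, hg₀, hu⟩ := hcat.2 ((AlgSp.yon S).obj N) (AlgSp.IsAlgSpace.yon_obj N) ((AlgSp.yon S).map a)
    (by rw [← Functor.map_comp, ← Functor.map_comp, hst])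
  refine ⟨(AlgSp.yon S).preimage (e.inv ≫ g₀), (key _).1 ?_, fun f' hf' => ?_⟩
  · rw [Functor.map_preimage, Iso.hom_inv_id_assoc, hg₀]
  · have h1 := (key f').2 hf'
    have h2 := hu (e.hom ≫ (AlgSp.yon S).map f') h1
    apply (AlgSp.yon S).map_injective
    rw [Functor.map_preimage, ← h2, Iso.inv_hom_id_assoc]

theorem isCoarseModuli (h𝒳 : FibCat.IsFibGrpd (CurvSt.Mgn S g 0).p)
    (hπ : AlgSt.IsCoarseModuli π) (hx : LocSurj (AlgSp.J S) x) (hU : IsNoetherian U.left)
    (G : ChartRep x R) (hR : IsNoetherian R.left) :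
    ModFun.IsCoarseModuli (fun T => IsNoetherian T.left) (ModFun.Mg S g) M₀
      (phi π e (fun T => IsNoetherian T.left)) :=
  ⟨fun Ω _ _ _ => inferInstanceAs (IsNoetherian (Spec (CommRingCat.of Ω))), isBestApprox e h𝒳 hπ.1 hx hU G hR,
    geomBij π e hπ.2⟩

end Main

end K610.Mg
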