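import Groth.Agent.GIT.K610.MgMain
import Groth.Agent.AlgSt.K743.Coarse818
import Groth.Agent.AlgSt.K747.EtAlias
import Groth.Agent.S16692
import Groth.Agent.S16693
import Groth.Agent.S16695
import Groth.Agent.S16706
import Groth.Agent.S16822

/-!
# Coarse moduli spaces of separated Deligne–Mumford stacks of finite type
-/

set_option autoImplicit false
universe u

open CategoryTheory AlgebraicGeometry

namespace K610.MgKM

theorem km (S : Scheme.{u}) [IsAffine S] [IsNoetherian S] : K610.Mg.KM S := fun 𝒳 h1 h2 h3 h4 => by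
  have hX := (K747.EtFppf.isAlgStack_iff (K747.EtFppf.boot2 S)).1 h1.1
  obtain ⟨M, π, a, b, c, -⟩ := K743.KM818.main 𝒳 (K747.EtFppf.boot2 S)
    (fun h => (Groth.Agent.S16822.result 𝒳 h.1).1 h)
    (fun a b => Groth.Agent.S16692.result S 𝒳 a b)
    (fun hI Y hY hYn p hp M π hπ g hg => Groth.Agent.S16693.result S 𝒳 hX hI Y hY hYn p hp M π hπ g hg)
    (fun hI M π hπ hs => Groth.Agent.S16695.result S 𝒳 hX hI M π hπ hs)
    (fun hI M π hπ => Groth.Agent.S16706.result S 𝒳 hX hI M π hπ) h1 h2 h3 h4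
  exact ⟨M, π, a, b, c⟩

end K610.MgKM
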