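import Groth.Agent.GIT.K610.MgMain
import Groth.Agent.GIT.K339.SmLim
import Groth.Agent.CurvSt.K679.MgnSmooth
import Groth.Agent.CurvSt.K898.QCFinal
import Groth.Agent.CurvSt.K898.QCAny
import Groth.Agent.CurvSt.K898.QCOpen
import Groth.Agent.CurvSt.K898.StdCurves
import Groth.Agent.AlgSt.K743.Coarse818

/-!
# The stack of smooth curves over a locally Noetherian base

`stackInputs` : the stack of smooth curves of genus `g ≥ 2` over a locally Noetherian scheme is a separated smooth
Deligne–Mumford stack of finite type with affine diagonal.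
-/

set_option autoImplicit false
set_option backward.isDefEq.respectTransparency false
set_option backward.isDefEq.respectTransparency.types false
universe u

open CategoryTheory CategoryTheory.Limits AlgebraicGeometry Opposite

namespace K610.MgStack

open CurvSt

variable (S : Scheme.{u}) {g : ℕ}

/-- Algebraicity, separated and quasi-compact diagonal, local finiteness. -/
theorem std_mgn (hg : 3 ≤ 2 * g + 0) : K738.OSub.Std (Mgn S g 0) := by
  have h := (K898.StdCurves.std S 0).sub (Q := fun A => K898.MbarEq.SpIsSmoothPtd A.obj g)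
    (K316.MbarAlg.openLocus_smooth S g 0)
  have he := K316.MbarAlg.isEquivOver_mgn S hg
  exact ⟨(K740.Inv.isAlgStack_iff _ he).2 h.alg, (K740.Inv.repByAlgSpWith_diagSelf_iff _ he).2 h.sep,
    (K740.Inv.repByAlgSpWith_diagSelf_iff _ he).2 h.qc, (K738.Sep.locQ_toSelf_iff he).2 h.lft⟩

/-- **Separatedness.** -/
theorem isSeparatedOver_mgn [IsLocallyNoetherian S] (hg : 2 ≤ g) : AlgSt.IsSeparatedOver (Mgn S g 0) := by
  have h := std_mgn S (g := g) (by omega)
  exact K738.Sep.isSeparatedOver_any h.alg h.sep h.qc h.lft (K339.SmLim.uniqLim_mgn S (by omega))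

/-- **The stack of smooth curves.** -/
theorem stackInputs [IsLocallyNoetherian S] (hg : 2 ≤ g) : K610.Mg.StackInputs S g where
  alg := (K316.MbarAlg.isDM_mgn S (by omega)).1
  etale := (K316.MbarAlg.isDM_mgn S (by omega)).2
  aff := K735.Rep.AlgSt_RepByAlgSpWith_mono (fun _ _ _ h Z hZ g => by
      obtain ⟨W, i, f, h1, h2, -⟩ := h hZ g
      exact ⟨W, i, f, h1, h2⟩)
    (K743.KM818.finite_diag (isSeparatedOver_mgn S hg) (K316.MbarAlg.isDMOver_mgn S (by omega)))
  lft := (std_mgn S (g := g) (by omega)).lft
  qc := K898.QCAny.isQuasiCompactMor_etale (K898.QCFinal.isQuasiCompactMor_mgn S g 0 (by omega)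
    (K316.MbarAlg.isAlgStack_mgn S (by omega))
    (K898.QCOpen.openCond_smooth g fun S => K316.MbarAlg.openLocus_smooth S g 0))
  sm := K679.MgnSmooth.locQ_smooth_mgn S (by omega)
  sep := isSeparatedOver_mgn S hg

end K610.MgStack
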