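import Groth.Agent.GIT.K610.MgFinal
import Groth.Agent.GIT.K610.MgStack
import Groth.Agent.GIT.K610.MgKM
import Groth.Agent.AgPol.K610.JacMain
import Groth.Agent.AgPol.K438.JacPol
import Groth.Agent.AgPol.K245.MumMain
import Groth.Agent.AgPol.K507.NodeB
import Groth.Agent.AgPol.K117.Final
import Groth.Agent.AgPol.K691.CoarseFin
import Groth.Agent.AgPol.K272.FrLocal
import Groth.Agent.AgPol.K817.ClosedFin

/-!
# The coarse moduli scheme of curves: discharging the inputs
-/

set_option autoImplicit false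
universe u

open CategoryTheory AlgebraicGeometry

namespace K610.MgEnd

/-- The Jacobian family. -/
theorem nodeA0 : K610.Mg.NodeA0.{u} :=
  K610.JacFam.main' (fun {S C} _ {f g} _ hf _ _ {σ hσ J} _ _ {ξ} hJ h {α} hα L hL hrel h1 hm =>
    K438.JacPol.main hf hJ h hα L hL hrel h1 hm) K245.MumMain.main

/-- The coarse moduli scheme of principally polarised abelian varieties. -/
theorem agInput (g : ℕ) (hg : 2 ≤ g) : K610.Mg.AgInput.{u} g := by
  obtain ⟨M, Φ, h1, h2, -⟩ := K691.CoarseFin.main g 1 1 (by omega) le_rfl fun N hN =>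
    K117.Final.main (by omega) le_rfl hN (fun m hm => K272.Fr.frLocal_main K817.Closed.h14161 hm)
      K817.Closed.vaMain
  exact ⟨M, Φ, h1, h2⟩

/-- The stack has objects over all algebraically closed fields. -/
theorem nonempty_fiber (S : Scheme.{u}) (g : ℕ) (Ω : Type u) [Field Ω] [IsAlgClosed Ω]
    (t : Spec (CommRingCat.of Ω) ⟶ S) : Nonempty ((CurvSt.Mgn S g 0).p.Fiber (Over.mk t)) :=
  K310.ExistsCurve.nonempty_Mgn_fiber t g 0

end K610.MgEnd
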