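import Groth.Agent.GIT.K610.MgMain
import Groth.Agent.RedSub.K194.RelDesc
import Groth.Agent.S9691
import Groth.Agent.S2337
import Groth.Agent.S2331
import Groth.Agent.RelProj.K823.DenseQP

/-!
# The coarse moduli scheme of curves over `ℤ` and over `ℚ`

* `s13900_of`, `s12554_of`, `s14165_of` : the three statements from the inputs.
-/

set_option autoImplicit false
set_option backward.isDefEq.respectTransparency false
set_option backward.isDefEq.respectTransparency.types false
universe u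
open CategoryTheory CategoryTheory.Limits AlgebraicGeometry Opposite

namespace K610.Mg

open Groth.Agent

section QP

/-- A separated quasi-finite morphism of finite type is quasi-projective. -/
theorem isQuasiProjective_of_lqf {X Y : Scheme.{u}} (f : X ⟶ Y) [LocallyQuasiFinite f] [LocallyOfFiniteType f]
    [IsSeparated f] [QuasiCompact f] : RelProj.IsQuasiProjective f :=
  ⟨inferInstance, inferInstance, _, (S2337.result f).1 (K194.RelDesc.isQuasiAffine_of_lqf f)⟩

theorem comp_qp {X Y Z : Scheme.{u}} [CompactSpace Z] {f : X ⟶ Y} {g : Y ⟶ Z} (hf : RelProj.IsQuasiProjective f)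
    (hg : RelProj.IsQuasiProjective g) : RelProj.IsQuasiProjective (f ≫ g) := by
  obtain ⟨h1, h2, L, hL⟩ := hf
  obtain ⟨h3, h4, K, hK⟩ := hg
  obtain ⟨n, -, hn⟩ := S2331.result f g L K hL hK
  exact ⟨inferInstance, inferInstance, _, hn n le_rfl⟩

theorem isSeparated_of_qp {X Y : Scheme.{u}} {f : X ⟶ Y} (hf : RelProj.IsQuasiProjective f) : IsSeparated f := by
  obtain ⟨h1, h2, L, hL⟩ := hf
  exact S9691.result f L hL

end QP

section Base

/-- The base of the absolute moduli problems. -/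
noncomputable abbrev SpecZ : Scheme.{u} := Spec (CommRingCat.of (ULift.{u} ℤ))

/-- The open set where `p` is invertible. -/
noncomputable abbrev DD (p : ℕ) : SpecZ.{u}.Opens :=
  SpecZ.{u}.basicOpen ((Scheme.ΓSpecIso (CommRingCat.of (ULift.{u} ℤ))).inv (ULift.up (p : ℤ)))

theorem basicOpen_sup {X : Scheme.{u}} (f h : Γ(X, ⊤)) (hfh : h = f + 1) : X.basicOpen f ⊔ X.basicOpen h = ⊤ := by
  rw [eq_top_iff]
  intro x _
  by_contra hx
  rw [TopologicalSpace.Opens.mem_sup, not_or, Scheme.mem_basicOpen_top, Scheme.mem_basicOpen_top] at hx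
  have h1 : X.presheaf.germ ⊤ x trivial h = X.presheaf.germ ⊤ x trivial f + 1 := by rw [hfh, map_add, map_one]
  refine (IsLocalRing.notMem_maximalIdeal.2 isUnit_one : (1 : X.presheaf.stalk x) ∉ IsLocalRing.maximalIdeal _) ?_
  have h2 : X.presheaf.germ ⊤ x trivial h ∈ IsLocalRing.maximalIdeal (X.presheaf.stalk x) := hx.2
  have h3 : X.presheaf.germ ⊤ x trivial f ∈ IsLocalRing.maximalIdeal (X.presheaf.stalk x) := hx.1
  have h4 := Ideal.sub_mem _ h2 h3
  rwa [h1, add_sub_cancel_left] at h4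

theorem sup_DD : DD.{u} 2 ⊔ DD.{u} 3 = ⊤ := by
  refine basicOpen_sup _ _ ?_
  rw [← map_one (Scheme.ΓSpecIso (CommRingCat.of (ULift.{u} ℤ))).inv.hom]
  change _ = (Scheme.ΓSpecIso (CommRingCat.of (ULift.{u} ℤ))).inv.hom _ + _
  rw [← map_add]
  rfl

instance isNoetherian_specZ : IsNoetherian SpecZ.{u} := by
  have : IsNoetherianRing (ULift.{u} ℤ) := isNoetherianRing_of_ringEquiv ℤ ULift.ringEquiv.symm
  infer_instance

instance isReduced_specZ : IsReduced SpecZ.{u} := by
  have : _root_.IsReduced (ULift.{u} ℤ) := isReduced_of_injective ULift.ringEquiv ULift.ringEquiv.injective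
  infer_instance

/-- A scheme over `ℤ` which is quasi-projective where `p` is invertible, for all `p`, is separated. -/
theorem isSeparated_of_DD {A : Scheme.{u}} (f : A ⟶ SpecZ.{u})
    (h : ∀ p : ℕ, p.Prime → RelProj.IsQuasiProjective (f ∣_ (DD.{u} p))) : IsSeparated f := by
  refine (IsZariskiLocalAtTarget.iff_of_iSup_eq_top (P := @IsSeparated)
    (fun b : Bool => if b then DD.{u} 2 else DD.{u} 3) ?_).2 fun b => ?_
  · rw [iSup_bool_eq]
    exact sup_DD
  · cases b
    · exact isSeparated_of_qp (h 3 Nat.prime_three)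
    · exact isSeparated_of_qp (h 2 Nat.prime_two)

end Base

section Z

/-- The statement of S14157 for `d = n = 1`, without the clause on points. -/
def AgInput (g : ℕ) : Prop :=
  ∃ (M : Over SpecZ.{u}) (Φ : (AgPol.Agdn SpecZ.{u} g 1 1).Hom (fun T => IsLocallyNoetherian T.left) M),
    ModFun.IsCoarseModuli (fun T => IsLocallyNoetherian T.left) (AgPol.Agdn SpecZ.{u} g 1 1) M Φ ∧
      ∀ p : ℕ, p.Prime → RelProj.IsQuasiProjective (M.hom ∣_ (DD.{u} p))

/-- The coarse moduli scheme over a base over `ℤ`. -/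
theorem exists_coarse_of_AgInput {S : Scheme.{u}} [IsAffine S] [IsNoetherian S] [IsReduced S] {g : ℕ} (hg : 2 ≤ g)
    (hI : StackInputs S g) (hKM : KM S) (hA : NodeA0.{u}) (hB : NodeB.{u}) (q : S ⟶ SpecZ.{u})
    (hAg : AgInput.{u} g) (hne : ∀ (Ω : Type u) [Field Ω] [IsAlgClosed Ω] (t : Spec (CommRingCat.of Ω) ⟶ S),
        Nonempty ((CurvSt.Mgn S g 0).p.Fiber (Over.mk t))) :
    ∃ (M : Over S) (φ : (ModFun.Mg S g).Hom (fun T => IsNoetherian T.left) M),
      ModFun.IsCoarseModuli (fun T => IsNoetherian T.left) (ModFun.Mg S g) M φ ∧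
        ∀ (Ω : Type u) [Field Ω] [IsAlgClosed Ω] (t : Spec (CommRingCat.of Ω) ⟶ S), Nonempty (Over.mk t ⟶ M) := by
  obtain ⟨A, Φ, hΦ, hqp⟩ := hAg
  have hs : IsSeparated A.hom := isSeparated_of_DD A.hom hqp
  obtain ⟨M, φ, -, h1, -⟩ := exists_coarse hg hI hKM hA hB q A Φ hΦ.2.2
  exact ⟨M, φ, h1, fun Ω _ _ t => nonempty_point φ Ω t (hne Ω t)⟩

/-- Two best approximations are isomorphic. -/
theorem exists_iso_of_best {S : Scheme.{u}} {F : ModFun.Problem.{u + 1} S} {P : ObjectProperty (Over S)} {M N : Over S}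
    {φ : F.Hom P M} {ψ : F.Hom P N} (h : ModFun.IsBestApprox P F M φ) (h' : ModFun.IsBestApprox P F N ψ) :
    Nonempty (M ≅ N) := by
  obtain ⟨a, ha, -⟩ := h N ψ
  obtain ⟨b, hb, -⟩ := h' M φ
  refine ⟨⟨a, b, ?_, ?_⟩⟩
  · refine (h M φ).unique (fun T x hT hx => ?_) fun T x hT hx => (Category.comp_id _).symm
    rw [← Category.assoc, ← ha, ← hb]
  · refine (h' N ψ).unique (fun T x hT hx => ?_) fun T x hT hx => (Category.comp_id _).symm
    rw [← Category.assoc, ← hb, ← ha]

/-- Quasi-projectivity of the coarse moduli scheme of curves where `p` is invertible. -/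
theorem qp_of_AgInput {g : ℕ} (hg : 2 ≤ g) (hI : StackInputs SpecZ.{u} g) (hKM : KM SpecZ.{u}) (hA : NodeA0.{u})
    (hB : NodeB.{u}) (hAg : AgInput.{u} g) (M : Over SpecZ.{u})
    (φ : (ModFun.Mg SpecZ.{u} g).Hom (fun T => IsNoetherian T.left) M)
    (hM : ModFun.IsCoarseModuli (fun T => IsNoetherian T.left) (ModFun.Mg SpecZ.{u} g) M φ) (p : ℕ) (hp : p.Prime) :
    RelProj.IsQuasiProjective (M.hom ∣_ (DD.{u} p)) := by
  obtain ⟨A, Φ, hΦ, hqp⟩ := hAg
  have hs : IsSeparated A.hom := isSeparated_of_DD A.hom hqp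
  obtain ⟨M₁, φ₁, k, h1, h2, h3, h4, h5, h6⟩ := exists_coarse hg hI hKM hA hB (𝟙 _) A Φ hΦ.2.2
  obtain ⟨e⟩ := exists_iso_of_best hM.2.1 h1.2.1
  let k₁ : M₁.left ⟶ A.left := k.left ≫ pullback.fst A.hom (𝟙 _)
  have hk₁ : k₁ ≫ A.hom = M₁.hom := by
    have hw : k.left ≫ pullback.snd A.hom (𝟙 _) = M₁.hom := Over.w k
    change (k.left ≫ pullback.fst A.hom (𝟙 _)) ≫ A.hom = M₁.hom
    rw [Category.assoc, pullback.condition, Category.comp_id, hw]
  let f : M.left ⟶ A.left := e.hom.left ≫ k₁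
  have hf : f ≫ A.hom = M.hom := by
    rw [← Over.w e.hom, ← hk₁, ← Category.assoc]
  have i1 : LocallyQuasiFinite k₁ := MorphismProperty.comp_mem _ _ _ h5 inferInstance
  have i2 : IsSeparated k₁ := MorphismProperty.comp_mem _ _ _ h6 inferInstance
  have i3 : LocallyOfFiniteType k₁ := by
    have : LocallyOfFiniteType (k₁ ≫ A.hom) := by
      rw [hk₁]
      exact h3
    exact locallyOfFiniteType_of_comp k₁ A.hom
  have i4 : QuasiCompact k₁ := by
    have : QuasiCompact (k₁ ≫ A.hom) := by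
      rw [hk₁]
      exact (HasAffineProperty.iff_of_isAffine (P := @QuasiCompact)).2 h4
    exact QuasiCompact.of_comp k₁ A.hom
  have j1 : LocallyQuasiFinite f := MorphismProperty.comp_mem _ _ _ inferInstance i1
  have key : ∀ m : M.left ⟶ SpecZ.{u}, f ≫ A.hom = m → RelProj.IsQuasiProjective (m ∣_ (DD.{u} p)) := by
    rintro _ rfl
    rw [morphismRestrict_comp]
    have : CompactSpace ↥((DD.{u} p : SpecZ.{u}.Opens) : Scheme.{u}) :=
      isCompact_iff_compactSpace.1 ((isAffineOpen_top SpecZ.{u}).basicOpen _).isCompact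
    exact comp_qp (isQuasiProjective_of_lqf _) (hqp p hp)
  exact key _ hf

end Z

end K610.Mg
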