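import Groth.Agent.GIT.K610.LqfGeom
import Groth.Agent.AlgSp.K597.EtLoc
import Groth.Agent.AlgSp.K597.LocP
import Groth.Agent.AlgSp.K613.LqfSch
import Groth.Agent.Unram.K147.LQF

/-!
# Morphisms from a separated algebraic space to a scheme which are injective on geometric points

`locP_lqf_of_inj` : locally of finite type, separated and injective on geometric points implies locally quasi-finite.
`exists_scheme` : hence the source is a scheme.
-/

set_option autoImplicit false
set_option backward.isDefEq.respectTransparency false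
set_option backward.isDefEq.respectTransparency.types false
universe u
open CategoryTheory CategoryTheory.Limits AlgebraicGeometry Opposite

namespace K610.Mg

open AlgSp K613.Basic K613.Cover K613.Chart K613.Diag

variable {S : Scheme.{u}}

/-- Locally of finite type, separated and injective on geometric points implies locally quasi-finite. -/
theorem locP_lqf_of_inj {M : Sp S} (hM : IsAlgSpace M) {A : Over S} (κ : M ⟶ (yon S).obj A)
    (hlft : LocP @LocallyOfFiniteType κ) (hsep : RepWith @IsClosedImmersion (pullback.diagonal κ))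
    (hinj : ∀ (Ω : Type u) [Field Ω] [IsAlgClosed Ω] (t : Spec (CommRingCat.of Ω) ⟶ S)
      (m m' : (yon S).obj (Over.mk t) ⟶ M), m ≫ κ = m' ≫ κ → m = m') :
    LocP (@LocallyQuasiFinite ⊓ @LocallyOfFiniteType) κ := by
  obtain ⟨V, a, ha, has⟩ := hM.atlas
  obtain ⟨q, hq⟩ := (yon S).map_surjective (a ≫ κ)
  have h1 : LocallyOfFiniteType q.left := hlft a (𝟙 _) q ha (repWith_id _ _) (by rw [Category.comp_id, hq])
  refine K597.locP_of_chart K597.etLoc_lqf κ a (𝟙 _) q ha has (repWith_id _ _) (by rw [Category.comp_id, hq]) ⟨?_, h1⟩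
  refine lqf_of_geom q.left fun Ω _ _ w₀ => ?_
  let ΩS : Over S := Over.mk (w₀ ≫ V.hom)
  let w₀' : ΩS ⟶ V := Over.homMk w₀ rfl
  let W : Over S := pullback q (w₀' ≫ q)
  let w₁ : W ⟶ V := pullback.fst _ _
  let w₂ : W ⟶ ΩS := pullback.snd _ _
  have hw : w₁ ≫ q = w₂ ≫ w₀' ≫ q := pullback.condition
  have hab : ((yon S).map w₁ ≫ a) ≫ κ = ((yon S).map (w₂ ≫ w₀') ≫ a) ≫ κ := by
    rw [Category.assoc, Category.assoc, ← hq, ← Functor.map_comp, ← Functor.map_comp, Category.assoc, hw]
  obtain ⟨E, e, he, hE⟩ := (repWith_diagonal_iff @IsClosedImmersion κ).1 hsep W _ _ hab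
  have sqE : IsPullback ((yon S).map (e ≫ w₂)) ((yon S).map (e ≫ w₁)) ((yon S).map w₀' ≫ a) a := by
    have w0 : (yon S).map (e ≫ w₂) ≫ (yon S).map w₀' ≫ a = (yon S).map (e ≫ w₁) ≫ a := by
      have := he.w
      rw [Functor.map_comp, Category.assoc] at this
      rw [Functor.map_comp, Functor.map_comp, Category.assoc, Category.assoc, this]
    refine isPullback_of_yon w0 fun R x y hxy => ?_
    obtain ⟨x, rfl⟩ := (yon S).map_surjective x
    obtain ⟨y, rfl⟩ := (yon S).map_surjective y
    have h2 : y ≫ q = x ≫ w₀' ≫ q := by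
      apply (yon S).map_injective
      rw [Functor.map_comp, hq, ← Category.assoc, ← hxy]
      simp only [Functor.map_comp, Category.assoc, hq]
    let r : R ⟶ W := pullback.lift y x h2
    have hr1 : r ≫ w₁ = y := pullback.lift_fst _ _ _
    have hr2 : r ≫ w₂ = x := pullback.lift_snd _ _ _
    obtain ⟨r', hr', hu⟩ := he.lift R r (by
      rw [← Category.assoc, ← Category.assoc, ← Functor.map_comp, ← Functor.map_comp, hr1, ← Category.assoc, hr2,
        ← hxy, Functor.map_comp, Category.assoc])
    refine ⟨(yon S).map r', ⟨?_, ?_⟩, ?_⟩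
    · rw [← Functor.map_comp, ← Category.assoc, hr', hr2]
    · rw [← Functor.map_comp, ← Category.assoc, hr', hr1]
    · rintro z ⟨hz1, hz2⟩
      obtain ⟨z, rfl⟩ := (yon S).map_surjective z
      rw [← Functor.map_comp] at hz1 hz2
      have hz1 := (yon S).map_injective hz1
      have hz2 := (yon S).map_injective hz2
      rw [hu z ?_]
      apply pullback.hom_ext
      · exact (Category.assoc _ _ _).trans (hz2.trans hr1.symm)
      · exact (Category.assoc _ _ _).trans (hz1.trans hr2.symm)
  have hEt : Etale (e ≫ w₂).left := prop_of_isPullback sqE ha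
  refine ⟨W.left, w₁.left, w₂.left, E.left, e.left, (IsPullback.of_hasPullback q (w₀' ≫ q)).map (Over.forget S), hE,
    ?_, fun ω hω => ?_⟩
  · exact K147.LQF.locallyQuasiFinite_of_etale (e ≫ w₂).left
  · let ω' : ΩS ⟶ W := Over.homMk ω (by
      rw [← Over.w w₂, reassoc_of% hω])
    have h2 : ω' ≫ w₂ = 𝟙 ΩS := by ext1; exact hω
    have h3 : (yon S).map (ω' ≫ w₁) ≫ a = (yon S).map w₀' ≫ a := by
      refine hinj Ω _ _ _ ?_
      rw [Category.assoc, Category.assoc, ← hq, ← Functor.map_comp, ← Functor.map_comp, Category.assoc, hw,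
        ← Category.assoc, h2, Category.id_comp]
    obtain ⟨r', hr', -⟩ := he.lift ΩS ω' (by
      rw [← Category.assoc, ← Functor.map_comp, h3, ← Category.assoc, ← Functor.map_comp, ← Category.assoc, h2,
        Category.id_comp])
    exact ⟨r'.left, congrArg CommaMorphism.left hr'⟩

end K610.Mg
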