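import Groth.Agent.GIT.K610.MgMap
import Groth.Agent.GIT.K610.MgCoarse
import Groth.Agent.AlgSt.K735.DvrMain
import Groth.Agent.StMod.K906.PresQc
import Groth.Agent.Etcore.SmoothRed
import Mathlib.CategoryTheory.Adjunction.Comma

/-!
# The coarse moduli scheme of curves from the stack of curves, the Torelli map and the coarse moduli scheme of
principally polarised abelian varieties

* `StackInputs S g` : the facts on the stack `Mgn S g 0` which are used.
* `KM S` : the statement on coarse moduli spaces of separated Deligne–Mumford stacks over `S`.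
* `exists_coarse` : the main theorem.
-/

set_option autoImplicit false
set_option backward.isDefEq.respectTransparency false
set_option backward.isDefEq.respectTransparency.types false
universe u
open CategoryTheory CategoryTheory.Limits AlgebraicGeometry Opposite
open K734.Fib K746

namespace K610.Mg

section QC

variable {S : Scheme.{u}}

theorem isEquivOver_toSelf_one :
    FibCat.IsEquivOver (FibCat.toSelf (FibCat.overCat (C := Over S) (Over.mk (𝟙 S)))) := by
  refine isEquivOver_of ⟨fun {a b} f => ⟨Over.homMk f ?_, rfl⟩⟩ ⟨fun {a b f f'} h => Over.OverMorphism.ext h⟩ fun T => ?_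
  · ext1
    have h1 := Over.w f
    have h2 := Over.w b.hom
    have h3 := Over.w a.hom
    have h4 : b.hom.left = b.left.hom := by simpa using h2
    have h5 : a.hom.left = a.left.hom := by simpa using h3
    change f.left ≫ b.hom.left = a.hom.left
    rw [h4, h5]
    exact h1
  · exact ⟨Over.mk (Over.homMk T.hom (Category.comp_id _) : T ⟶ Over.mk (𝟙 S)), Iso.refl _, IsVert.id _⟩

/-- A quasi-compact structure functor over an affine base. -/
theorem isQuasiCompact_of_mor [IsAffine S] {𝒳 : AlgSt.Cat S}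
    (h : AlgSt.IsQuasiCompactMor Scheme.etalePrecoverage (FibCat.toSelf 𝒳)) : AlgSt.IsQuasiCompact 𝒳 := by
  have h1 := h (FibCat.overCat (Over.mk (𝟙 S))) (K735.DvrMain.isAlgStack_overCat_et _)
    (K906.isQuasiCompact_overCat (inferInstanceAs (IsAffine S))) (FibCat.toSelf _)
  exact K906.isQuasiCompact_of_equiv _ (isEquivOver_fpSnd _ (FibCat.toSelf 𝒳) isEquivOver_toSelf_one) h1

end QC

/-- The facts on the stack of smooth curves which are used. -/
structure StackInputs (S : Scheme.{u}) (g : ℕ) : Prop where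
  alg : AlgSt.IsAlgStack Scheme.etalePrecoverage (CurvSt.Mgn S g 0)
  etale : AlgSt.HasAtlas AlgSp.IsEtaleMor (CurvSt.Mgn S g 0)
  aff : AlgSt.RepByAlgSpWith AlgSp.IsAffineMor (FibCat.diag (FibCat.toSelf (CurvSt.Mgn S g 0)))
  lft : AlgSt.LocQ (AlgSp.LocP @LocallyOfFiniteType) (FibCat.toSelf (CurvSt.Mgn S g 0))
  qc : AlgSt.IsQuasiCompactMor Scheme.etalePrecoverage (FibCat.toSelf (CurvSt.Mgn S g 0))
  sm : AlgSt.LocQ (AlgSp.LocP @Smooth) (FibCat.toSelf (CurvSt.Mgn S g 0))
  sep : AlgSt.IsSeparatedOver (CurvSt.Mgn S g 0)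

/-- Coarse moduli spaces of separated Deligne–Mumford stacks of finite type. -/
def KM (S : Scheme.{u}) : Prop :=
  ∀ (𝒳 : AlgSt.Cat S), AlgSt.IsDM Scheme.etalePrecoverage 𝒳 → AlgSt.IsSeparatedOver 𝒳 →
    AlgSt.LocQ (AlgSp.LocP @LocallyOfFiniteType) (FibCat.toSelf 𝒳) → AlgSt.IsQuasiCompact 𝒳 →
    ∃ (M : AlgSp.Sp S) (π : 𝒳 ⥤ᵇ AlgSt.ofSp M), AlgSt.IsCoarseModuli π ∧ AlgSp.IsSeparatedSp M ∧
      ∀ q : M ⟶ (AlgSp.yon S).obj (Over.mk (𝟙 S)), AlgSp.IsFiniteTypeMor q

/-- **The coarse moduli scheme of curves.** -/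
theorem exists_coarse {S : Scheme.{u}} [IsAffine S] [IsNoetherian S] [IsReduced S] {g : ℕ} (hg : 2 ≤ g)
    (hI : StackInputs S g) (hKM : KM S) (hA : NodeA0.{u}) (hB : NodeB.{u}) {Z : Scheme.{u}} (q : S ⟶ Z) (A : Over Z)
    [IsSeparated A.hom] (Φ : (AgPol.Agdn Z g 1 1).Hom (fun T => IsLocallyNoetherian T.left) A)
    (hΦ : ModFun.GeomBij (AgPol.Agdn Z g 1 1) A Φ) :
    ∃ (M : Over S) (φ : (ModFun.Mg S g).Hom (fun T => IsNoetherian T.left) M) (k : M ⟶ (Over.pullback q).obj A),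
      ModFun.IsCoarseModuli (fun T => IsNoetherian T.left) (ModFun.Mg S g) M φ ∧ IsSeparated M.hom ∧
        LocallyOfFiniteType M.hom ∧ CompactSpace M.left ∧ LocallyQuasiFinite k.left ∧ IsSeparated k.left := by
  have h𝒳 : FibCat.IsFibGrpd (CurvSt.Mgn S g 0).p := hI.alg.isStack.1
  have hqc := isQuasiCompact_of_mor hI.qc
  obtain ⟨K⟩ := exists_chart h𝒳 hI.aff hI.sm hqc
  obtain ⟨M, π, hπ, hsep, hft⟩ := hKM (CurvSt.Mgn S g 0) ⟨hI.alg, hI.etale⟩ hI.sep hI.lft hqc
  obtain ⟨F, hF⟩ := exists_jacOn q hA hg K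
  have hR : IsReduced K.R.left := by
    have := K.smoothR
    exact Groth.Agent.Etcore.SmoothRed.isReduced_of_smooth K.R.hom
  let adj := Over.mapPullbackAdj q
  let a : K.U ⟶ (Over.pullback q).obj A := adj.homEquiv _ _ (tor Φ hF)
  have ha : ∀ {T : Over S} (u : T ⟶ K.U), u ≫ a = adj.homEquiv _ _ ((Over.map q).map u ≫ tor Φ hF) := fun u =>
    (adj.homEquiv_naturality_left u (tor Φ hF)).symm
  obtain ⟨M₀, e, k, p₀, h1, h2, h3, h4, h5, h6, h7⟩ := exists_scheme h𝒳 hπ hsep (fun q' => (hft q').1) K.surj K.G a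
    (by rw [ha, ha, map_s_tor hB hg h𝒳 hF])
    (fun Ω _ _ t u v huv => by
      rw [ha, ha] at huv
      exact exists_vert_of_tor hB hg h𝒳 hΦ hF Ω t u v ((adj.homEquiv _ _).injective huv))
  refine ⟨M₀, phi π e _, k, isCoarseModuli e h𝒳 hπ K.surj K.noethU K.G K.noethR, h4, h5, ?_, h1, h3⟩
  have := K.noethU
  exact h7.surj.compactSpace p₀.left.continuous

/-- The coarse moduli scheme has points when the stack has objects. -/
theorem nonempty_point {S : Scheme.{u}} {g : ℕ} {M : Over S}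
    (φ : (ModFun.Mg S g).Hom (fun T => IsNoetherian T.left) M) (Ω : Type u) [Field Ω]
    (t : Spec (CommRingCat.of Ω) ⟶ S) (h : Nonempty ((CurvSt.Mgn S g 0).p.Fiber (Over.mk t))) :
    Nonempty (Over.mk t ⟶ M) := by
  obtain ⟨z, hz⟩ := h
  obtain ⟨C, hC, -⟩ := exists_obj z hz
  exact ⟨φ.app (Over.mk t) C (inferInstanceAs (IsNoetherian (Spec (CommRingCat.of Ω)))) ⟨trivial, hC⟩⟩

end K610.Mg
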