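import Groth.Agent.CurvSt.K896.TailBridge
import Groth.Agent.CurvSt.K898.StabFam
import Groth.Agent.CurvSt.K899.OpenCrit
import Groth.Agent.EssDim.K995.GenusField
import Groth.Prelude.Def_AlgSt3

/-!
# Separatedness of the stack of smooth curves from that of the stack of stable curves

* `isStableFam_of_smooth` : smooth curves of genus at least two are stable.
* `diag_sub_of_sub` : the diagonal of a full subcategory of a full subcategory.
* `isSeparatedOver_mgn`.
-/

set_option autoImplicit false
set_option backward.isDefEq.respectTransparency false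
set_option backward.isDefEq.respectTransparency.types false
universe v w u
open CategoryTheory CategoryTheory.Limits AlgebraicGeometry Opposite

namespace K610.Mg

section Stable

/-- Smooth curves of genus at least two are stable. -/
theorem isStableFam_of_smooth {g : ℕ} (hg : 2 ≤ g) {C T : Scheme.{u}} {f : C ⟶ T} (h : ModFun.IsCurveOfGenus g f)
    (σ : Fin 0 → (T ⟶ C)) (hσ : ∀ i, σ i ≫ f = 𝟙 T) : CurvSt.IsStableFam f σ hσ g := by
  have hs : Smooth f := h.1
  refine ⟨inferInstance, h.2.1, inferInstance, fun Ω _ _ t X i q hP => ?_⟩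
  obtain ⟨h1, h2, h3, h4⟩ := K898.StabFam.geoGenus_of_isCurveOfGenus h Ω t X i q hP
  have hq : Smooth q := MorphismProperty.of_isPullback hP h.1
  have hp : IsProper q := MorphismProperty.of_isPullback hP h.2.1
  have hirr : IrreducibleSpace X := by
    have := h.2.2.1
    exact GeometricallyIrreducible.geometrically_irreducibleSpace (f := f) _ _ _ hP
  refine ⟨hp, h1, h2, ⟨h3, h4⟩, fun a => a.elim0, fun a => a.elim0, fun E hE => ?_, by omega⟩
  exfalso
  letI : X.Over (Spec (CommRingCat.of Ω)) := ⟨q⟩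
  have hr : IsReduced X := K898.StabFam.isReduced q h3
  obtain ⟨hE1, e, he, -, he2⟩ := hE
  have hE' : E = Set.univ := by
    have h5 : irreducibleComponents X = {Set.univ} := irreducibleComponents_eq_singleton
    rw [h5] at hE1
    exact hE1
  have hsurj : Surjective e := ⟨fun x => by
    have : x ∈ Set.range e.base := by rw [he2, hE']; trivial
    exact this⟩
  have hiso : IsIso e := isIso_of_isClosedImmersion_of_surjective e
  have h6 : Subsingleton (Coh.HH X (Coh.structureModule X) 1) := K896.TailBridge.subsingleton_of_iso_P1 (asIso e)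
  have h7 : Curv2.genus Ω X = 0 := Module.finrank_zero_of_subsingleton
  have h8 : Curv2.genus Ω X = g := h4
  omega

end Stable

section Diag

variable {S : Scheme.{u}} {𝒳 : BasedCategory.{v, w} (Over S)} {Q Q' : 𝒳.obj → Prop}

/-- The inclusion of full subcategories. -/
def subLe (hle : ∀ x, Q' x → Q x) : AlgSt.fullSub 𝒳 Q' ⥤ᵇ AlgSt.fullSub 𝒳 Q where
  toFunctor :=
    { obj := fun x => ⟨x.obj, hle _ x.property⟩
      map := fun f => ObjectProperty.homMk f.hom
      map_id := fun _ => rfl
      map_comp := fun _ _ => rfl }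
  w := rfl

theorem subLe_faithful (hle : ∀ x, Q' x → Q x) : (subLe hle : AlgSt.fullSub 𝒳 Q' ⥤ᵇ _).toFunctor.Faithful where
  map_injective {_ _} _ _ h := ObjectProperty.hom_ext _ (congrArg (fun t => t.hom) h)

theorem subLe_full (hle : ∀ x, Q' x → Q x) : (subLe hle : AlgSt.fullSub 𝒳 Q' ⥤ᵇ _).toFunctor.Full where
  map_surjective {_ _} f := ⟨ObjectProperty.homMk f.hom, rfl⟩

/-- The inclusion on products. -/
def prodLe (hle : ∀ x, Q' x → Q x) :
    FibCat.fp (FibCat.toSelf (AlgSt.fullSub 𝒳 Q')) (FibCat.toSelf (AlgSt.fullSub 𝒳 Q')) ⥤ᵇ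
      FibCat.fp (FibCat.toSelf (AlgSt.fullSub 𝒳 Q)) (FibCat.toSelf (AlgSt.fullSub 𝒳 Q)) where
  toFunctor :=
    { obj := fun p => ⟨{ fst := (subLe hle).obj p.obj.fst, snd := (subLe hle).obj p.obj.snd, iso := p.obj.iso },
        p.property⟩
      map := fun {p q} f => ObjectProperty.homMk { fst := (subLe hle).map f.hom.fst, snd := (subLe hle).map f.hom.snd,
                                                   w := f.hom.w }
      map_id := fun p => rfl
      map_comp := fun f g => rfl }
  w := rfl

theorem prodLe_faithful (hle : ∀ x, Q' x → Q x) : (prodLe (𝒳 := 𝒳) hle).toFunctor.Faithful where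
  map_injective {p q} f g h := by
    have h1 := congrArg (fun t => t.hom.fst.hom) h
    have h2 := congrArg (fun t => t.hom.snd.hom) h
    apply ObjectProperty.hom_ext; apply CategoricalPullback.hom_ext
    · exact ObjectProperty.hom_ext _ h1
    · exact ObjectProperty.hom_ext _ h2

theorem prodLe_full (hle : ∀ x, Q' x → Q x) : (prodLe (𝒳 := 𝒳) hle).toFunctor.Full where
  map_surjective {p q} f :=
    ⟨ObjectProperty.homMk { fst := ObjectProperty.homMk f.hom.fst.hom, snd := ObjectProperty.homMk f.hom.snd.hom,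
                            w := f.hom.w }, rfl⟩

/-- The diagonal of a full subcategory of a full subcategory. -/
theorem diag_sub_of_sub (hle : ∀ x, Q' x → Q x) (hQ' : ∀ {x y : 𝒳.obj}, (y ⟶ x) → Q' x → Q' y)
    {P : MorphismProperty (AlgSp.Sp S)}
    (h : AlgSt.RepByAlgSpWith P (FibCat.diag (FibCat.toSelf (AlgSt.fullSub 𝒳 Q)))) :
    AlgSt.RepByAlgSpWith P (FibCat.diag (FibCat.toSelf (AlgSt.fullSub 𝒳 Q'))) := by
  intro U y
  have hΘ := K899.FpEquiv.Θ_isEquivOver y (subLe hle) (prodLe hle)
    (FibCat.diag (FibCat.toSelf (AlgSt.fullSub 𝒳 Q'))) (FibCat.diag (FibCat.toSelf (AlgSt.fullSub 𝒳 Q))) (Iso.refl _)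
    (subLe_full hle) (subLe_faithful hle) (prodLe_full hle) (prodLe_faithful hle) (fun a x i hi => by
      refine ⟨⟨x.obj, hQ' (i.inv.hom.fst.hom) (y.obj a).obj.fst.property⟩, Iso.refl _, ?_⟩
      exact IsHomLift.id rfl)
  exact K899.FpEquiv.exists_rep_of_Θ y _ _ _ _ _ hΘ P (h U (BasedFunctor.comp y (prodLe hle)))

end Diag

/-- The stack of smooth curves is separated when the stack of stable curves is. -/
theorem isSeparatedOver_mgn (S : Scheme.{u}) {g : ℕ} (hg : 2 ≤ g)
    (h : AlgSt.IsSeparatedOver (CurvSt.Mbar S g 0)) : AlgSt.IsSeparatedOver (CurvSt.Mgn S g 0) :=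
  diag_sub_of_sub (𝒳 := CurvSt.PtFam S 0) (fun A hA => isStableFam_of_smooth hg hA.1 _ _)
    (fun {x y} φ hx => ⟨K995.GenusField.isCurveOfGenus_of_isPullback φ.cart hx.1, fun i => i.elim0⟩) h

end K610.Mg
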